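import Cfsg.Agent.H383.Cov.PlusEl

/-!
# S3938, orthogonal groups of plus type: elements with two irreducible blocks (helper604)

`exists_A2` : as `H383.Cov.exists_A`, with the square of an element of order `N' ∣ q ^ e + 1` on the second block.
-/

set_option autoImplicit false
set_option linter.unusedSectionVars false
set_option linter.style.haveILetI false

namespace Cfsg.Agent.H604.Spr

open Module Cfsg Cfsg.Geo QuadraticMap
open Cfsg.Agent.LieClassical.OrthCore Cfsg.Agent.LieClassical.OrthForms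
open Cfsg.Agent.H182.Sign
open Cfsg.Agent.H383.Cov
open Cfsg.Agent.H278.Cov (Red Ext Num)
open scoped MatrixGroups Matrix

variable {F : Type} [Field F] [Fintype F]

/-- matrices from isometries of another model -/
theorem exists_sim_iso {ι : Type} [Fintype ι] [DecidableEq ι] {Q : QuadraticForm F (ι → F)}
    {V : Type} [AddCommGroup V] [Module F V] {Q' : QuadraticForm F V}
    (e : (ι → F) ≃ₗ[F] V) (he : ∀ v, Q' (e v) = Q v)
    {x : Module.End F V} (hx : ∀ v, Q' (x v) = Q' v) {M : ℕ} (hM0 : M ≠ 0) (hxM : x ^ M = 1) :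
    ∃ X : GL ι F, X ∈ isometryGroup F ⇑Q ∧ ∀ v, e ((X : Matrix ι ι F) *ᵥ v) = x (e v) := by
  let φ : Module.End F V ≃ₐ[F] Matrix ι ι F := (e.symm.conjAlgEquiv F).trans LinearMap.toMatrixAlgEquiv'
  have hφ : ∀ (S : Module.End F V) (v : ι → F), (φ S).mulVec v = e.symm (S (e v)) := by
    intro S v
    show (LinearMap.toMatrix' (e.symm.conj S)).mulVec v = _
    rw [LinearMap.toMatrix'_mulVec]
    rfl
  have hunit : IsUnit (φ x) := by
    apply IsUnit.of_pow_eq_one (n := M) _ hM0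
    rw [← map_pow, hxM, map_one]
  obtain ⟨X, hX⟩ := hunit
  have hsim : ∀ v, e ((X : Matrix ι ι F) *ᵥ v) = x (e v) := by
    intro v
    rw [hX, hφ, e.apply_symm_apply]
  refine ⟨X, ?_, hsim⟩
  rw [Cfsg.Agent.LieClassical.OrthFinite.mem_isometryGroup_iff]
  intro v
  rw [← he, hsim, hx, he]

/-- elements of `omegaGL Q` from squares of isometries of another model -/
theorem exists_sim_sq {ι : Type} [Fintype ι] [DecidableEq ι] {Q : QuadraticForm F (ι → F)} {n : ℕ} {ε : ℤ}
    (hQ : Sg Q n ε) (h5 : 5 ≤ Fintype.card ι) {V : Type} [AddCommGroup V] [Module F V] [Finite V]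
    {Q' : QuadraticForm F V} (hQ' : Sg Q' n ε) {s : Module.End F V} (hs : ∀ v, Q' (s v) = Q' v) {M : ℕ}
    (hM0 : M ≠ 0) (hsM : s ^ M = 1) : ∃ X : GL ι F, X ∈ omegaGL ⇑Q ∧ Sim X (s * s) := by
  obtain ⟨e, he⟩ := Sg.exists_equiv hQ hQ'
  obtain ⟨S, hS, hsim⟩ := exists_sim_iso (Q := Q) e he hs hM0 hsM
  refine ⟨S * S, ?_, e, fun v => ?_⟩
  · let g : isometryGroup F ⇑Q := ⟨S, hS⟩
    exact ⟨g * g, Cfsg.Agent.H377.mul_self_mem_Omega Q hQ.nondeg h5 g, rfl⟩
  · rw [Units.val_mul, ← Matrix.mulVec_mulVec, hsim, hsim, Module.End.mul_apply]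

/-- the dimensions of the invariant subspaces of a pair of irreducible multiplications of coprime orders -/
theorem dims_pair {L L' : Type} [Field L] [Algebra F L] [Finite L] [Field L'] [Algebra F L'] [Finite L'] {u : L}
    {w : L'} {M N a e m : ℕ} (s2 : finrank F L = 2 * a) (t2 : finrank F L' = 2 * e) (hm : a + e = m)
    (s3 : orderOf u = M) (t3 : orderOf w = N) (s4 : u ≠ 0) (t4 : w ≠ 0) (hM1 : M ≠ 1)
    (hc : M.Coprime N) (h1 : ∀ j, 1 ≤ j → j < 2 * a → ¬ M ∣ Fintype.card F ^ j - 1)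
    (h2 : ∀ j, 1 ≤ j → j < 2 * e → ¬ N ∣ Fintype.card F ^ j - 1)
    {W : Submodule F (L × L')} (hW : ∀ v ∈ W, ((LinearMap.mulLeft F u : Module.End F L).prodMap
      (LinearMap.mulLeft F w : Module.End F L')) v ∈ W) : finrank F W ∈ ({0, 2 * e, 2 * a, 2 * m} : Set ℕ) := by
  have hfL : FiniteDimensional F L := Module.Finite.of_finite
  have hfL' : FiniteDimensional F L' := Module.Finite.of_finite
  have p1 : (LinearMap.mulLeft F u : Module.End F L) ^ M = 1 := by
    rw [mulLeft_pow, mulLeft_eq_one, ← s3, pow_orderOf_eq_one]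
  have p2 : (LinearMap.mulLeft F w : Module.End F L') ^ N = 1 := by
    rw [mulLeft_pow, mulLeft_eq_one, ← t3, pow_orderOf_eq_one]
  have hcase : ∀ {K : Type} [Field K] [Algebra F K] [Finite K] {w : K} {d : ℕ}, finrank F K = d → w ≠ 0 →
      (∀ j, 1 ≤ j → j < d → ¬ orderOf w ∣ Fintype.card F ^ j - 1) →
      ∀ W : Submodule F K, (∀ v ∈ W, LinearMap.mulLeft F w v ∈ W) → finrank F W ∈ ({0, d} : Set ℕ) := by
    intro K _ _ _ w d hd h0 h W hW
    rcases irr_mul (F := F) (ζ := w) (by rw [hd, Nat.card_eq_fintype_card]; exact h) h0 hW with rfl | rfl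
    · left; exact finrank_bot F K
    · right; rw [finrank_top]; exact hd
  obtain ⟨s, hs', t, ht', hst⟩ := pair_dims p1 p2 hc (mulLeft_free (ne_one_of_order s3 hM1))
    (hcase s2 s4 (by rw [s3]; exact h1)) (hcase t2 t4 (by rw [t3]; exact h2)) hW
  rw [hst]
  simp only [Set.mem_insert_iff, Set.mem_singleton_iff] at hs' ht' ⊢
  omega

theorem num_not_dvd {q n k M : ℕ} (hM : Num q n k M) : ∀ j, 1 ≤ j → j < k → ¬ M ∣ q ^ j - 1 := by
  intro j hj hjl hd
  have h1 := hM.prim j hj hjl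
  have h2 := Nat.dvd_gcd dvd_rfl hd
  rw [h1] at h2
  have := hM.big
  have := Nat.le_of_dvd one_pos h2
  omega

theorem exists_A2 {m a e M N' : ℕ} (hm : a + e = m) (h5 : 3 ≤ m) (ha : a ≠ 0) (he : e ≠ 0) (hea : e < a)
    (hM : Num (Fintype.card F) (2 * m) (2 * a) M) (hN : N' ∣ Fintype.card F ^ e + 1)
    (hN1 : ∀ j, 1 ≤ j → j < 2 * e → ¬ N' / N'.gcd 2 ∣ Fintype.card F ^ j - 1) :
    ∃ A : GL (Fin m ⊕ Fin m) F, A ∈ omegaGL ⇑(plusForm m F) ∧ (∃ i, NumEl a (A ^ i)) ∧
      Dims A {0, 2 * e, 2 * a, 2 * m} := by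
  have hq : 2 ≤ Fintype.card F := Fintype.one_lt_card
  have hMd := num_dvd (by omega) hM
  have hMo := num_odd hq (by omega) hM
  obtain ⟨L, _, _, _, Q, u, s1, s2, s3, s4, s5⟩ := exists_negN (F := F) ha hMd
  obtain ⟨L', _, _, _, Q', w, t1, t2, t3, t4, t5⟩ := exists_negN (F := F) he hN
  have hfL : FiniteDimensional F L := Module.Finite.of_finite
  have hfL' : FiniteDimensional F L' := Module.Finite.of_finite
  have hs := s1.prod t1
  rw [hm, show (-1 : ℤ) * -1 = 1 by norm_num] at hs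
  have hM1 : M ≠ 1 := by
    have := hM.big
    omega
  set N := N' / N'.gcd 2 with hNdef
  have t3' : orderOf (w ^ 2) = N := by rw [orderOf_pow' w two_ne_zero, t3]
  have hNN : N ∣ N' := Nat.div_dvd_of_dvd (Nat.gcd_dvd_left _ _)
  have hc : M.Coprime N := by
    have h1 := hM.prim (2 * e) (by omega) (by omega)
    refine Nat.Coprime.coprime_dvd_right ((hNN.trans hN).trans ?_) h1
    have h2 : Fintype.card F ^ (2 * e) - 1 = (Fintype.card F ^ e + 1) * (Fintype.card F ^ e - 1) := by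
      have := Nat.sq_sub_sq (Fintype.card F ^ e) 1
      rw [one_pow, ← pow_mul, mul_comm e 2] at this
      exact this
    rw [h2]
    exact dvd_mul_right _ _
  have hN0 : N' ≠ 0 := by
    rintro rfl
    rw [zero_dvd_iff] at hN
    omega
  obtain ⟨c, hc2⟩ := hMo
  have hu1 : u ^ (c + 1) * u ^ (c + 1) = u := by
    rw [← pow_add, show c + 1 + (c + 1) = (2 * c + 1) + 1 by ring, pow_succ, ← hc2, ← s3, pow_orderOf_eq_one, one_mul]
  have hpow5 : ∀ n : ℕ, ∀ v, Q (u ^ n * v) = Q v := by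
    intro n
    induction n with
    | zero => intro v; rw [pow_zero, one_mul]
    | succ n ih => intro v; rw [pow_succ, mul_assoc, ih, s5]
  have hM0 : M ≠ 0 := by omega
  have e1 : (LinearMap.mulLeft F (u ^ (c + 1)) : Module.End F L) ^ M = 1 := by
    rw [mulLeft_pow, mulLeft_eq_one, ← pow_mul, mul_comm, pow_mul, ← s3, pow_orderOf_eq_one, one_pow]
  have e2 : (LinearMap.mulLeft F w : Module.End F L') ^ N' = 1 := by
    rw [mulLeft_pow, mulLeft_eq_one, ← t3, pow_orderOf_eq_one]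
  obtain ⟨A, hA, hsim⟩ := exists_sim_sq (sg_plus (F := F) m) (by rw [card_ix]; omega) hs
    (s := (LinearMap.mulLeft F (u ^ (c + 1))).prodMap (LinearMap.mulLeft F w)) (M := M * N')
    (by
      intro v
      rw [prodForm_apply, prodForm_apply]
      change Q (u ^ (c + 1) * v.1) + Q' (w * v.2) = _
      rw [hpow5, t5])
    (Nat.mul_ne_zero hM0 hN0)
    (by
      rw [pair_pow, pow_mul, e1, one_pow, mul_comm, pow_mul, e2, one_pow]
      rfl)
  have hsq : ((LinearMap.mulLeft F (u ^ (c + 1)) : Module.End F L).prodMap (LinearMap.mulLeft F w : Module.End F L')) *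
      ((LinearMap.mulLeft F (u ^ (c + 1)) : Module.End F L).prodMap (LinearMap.mulLeft F w : Module.End F L')) =
      (LinearMap.mulLeft F u : Module.End F L).prodMap (LinearMap.mulLeft F (w ^ 2) : Module.End F L') := by
    rw [← pow_two, pair_pow, mulLeft_pow, mulLeft_pow, pow_two (u ^ (c + 1)), hu1]
  rw [hsq] at hsim
  have p1 : (LinearMap.mulLeft F u : Module.End F L) ^ M = 1 := by
    rw [mulLeft_pow, mulLeft_eq_one, ← s3, pow_orderOf_eq_one]
  have p2 : (LinearMap.mulLeft F (w ^ 2) : Module.End F L') ^ N = 1 := by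
    rw [mulLeft_pow, mulLeft_eq_one, ← t3', pow_orderOf_eq_one]
  refine ⟨A, hA, ?_, ?_⟩
  · obtain ⟨j, hj1, hj2⟩ := exists_pow_left p1 p2 hc
    refine ⟨j, numEl_of (V := L') (by omega) (by rw [card_ix]; exact hM) s3 s2 ?_⟩
    have h1 := hsim.pow j
    rw [pair_pow, hj1, hj2] at h1
    exact h1
  · apply hsim.dims
    intro W hW
    exact dims_pair s2 t2 hm s3 t3' s4 (pow_ne_zero 2 t4) hM1 hc (num_not_dvd hM) hN1 hW

end Cfsg.Agent.H604.Spr
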