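import Cfsg.Agent.H604.Spr.Main
import Cfsg.Agent.H604.Spr.ElA
import Cfsg.Agent.H383.Cov.Plus
import Cfsg.Agent.H424.Spr.Core

/-!
# S3938: the groups `PΩ⁺_{2m}(q)`, `m ≥ 5` (helper604)

`spr_plus' ` : `Spr (POmega F (quadFormPlus m F))`, `m ≥ 5`, except `q = 2`, `m ≤ 8` and `q = 3`, `m = 5` (the overgroup
theorem S5948 is the hypothesis `hP`).
-/

set_option autoImplicit false
set_option linter.unusedSectionVars false

namespace Cfsg.Agent.H604.Spr

open Module Cfsg Cfsg.Geo
open Cfsg.Agent.LieClassical.OrthCore Cfsg.Agent.LieClassical.OrthForms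
open Cfsg.Agent.LieClassical.OrthTrans (Good)
open Cfsg.Agent.H383.Cov
open Cfsg.Agent.H278.Cov (Red Ext Num)
open Cfsg.Agent.H424.Spr (Spr)
open Cfsg.Agent.H659.CovCore (S5948Stmt)
open Cfsg.Agent.H689 (Ppd exists_ppd)
open scoped MatrixGroups Matrix

variable {F : Type} [Field F] [Fintype F]

theorem good_plusForm {m : ℕ} (hm : 3 ≤ m) : Good (plusForm m F) := by
  rw [AutOrth.Main.plusForm_eq]
  exact AutOrth.Main.good_plus hm

theorem spr_of_el (hP : S5948Stmt.{0}) {m a e i : ℕ} (hm : a + e = m) (hea : e < a) (h5 : 5 ≤ m) (ha : 4 ≤ a)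
    (he : 1 ≤ e) (hg : ∀ r : ℕ, r.Prime → r ∣ Nat.gcd (2 * m) (2 * a) → r = 2) {A : GL (Fin m ⊕ Fin m) F}
    (hA : A ∈ omegaGL ⇑(plusForm m F)) (hAi : NumEl a (A ^ i)) (dA : Dims A {0, 2 * e, 2 * a, 2 * m}) :
    Spr (POmega F (quadFormPlus m F)) := by
  have hne : Nonempty (Fin m ⊕ Fin m) := ⟨Sum.inl ⟨0, by omega⟩⟩
  have hQ : IsNondegenerateQuadraticForm ⇑(plusForm m F) := isNondeg (sg_plus m).nondeg
  have og : OgO ⇑(plusForm m F) := fun k H hle hne g hg hn =>
    Cfsg.Agent.H558.Cov.og_o hP hQ hle hne hg hn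
  have key : ∀ α : MulAut (POmega F (quadFormPlus m F)), AutOrth.Main.Ind (quadFormPlus m F) α → α ≠ 1 →
      ∃ x, ∀ K : Subgroup (POmega F (quadFormPlus m F)), x ∈ K → (∀ k ∈ K, α k ∈ K) → K = ⊤ := by
    rw [← coe_plusForm]
    intro α hα hα1
    refine spr_core (good_plusForm (by omega)) og hA (a := a) (e := e) (by rw [card_ix]; omega) he hea ha
      (by rw [card_ix]; exact hg) hAi (by rw [card_ix]; exact dA) hα hα1
  intro α hα1
  exact key α (AutOrth.Main.all_plus h5 α) hα1

theorem core_plus (hP : S5948Stmt.{0}) {m a e N : ℕ} (hm : a + e = m) (hea : e < a) (h5 : 5 ≤ m) (ha : 4 ≤ a)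
    (he : 1 ≤ e) (hg : ∀ r : ℕ, r.Prime → r ∣ Nat.gcd (2 * m) (2 * a) → r = 2)
    (hM : ∃ M, Num (Fintype.card F) (2 * m) (2 * a) M) (hN : N ∣ Fintype.card F ^ e + 1)
    (hN1 : ∀ j, 1 ≤ j → j < 2 * e → ¬ N / N.gcd 2 ∣ Fintype.card F ^ j - 1) :
    Spr (POmega F (quadFormPlus m F)) := by
  obtain ⟨M, hM⟩ := hM
  obtain ⟨A, hA, ⟨i, hAi⟩, dA⟩ := exists_A2 hm (by omega) (by omega) (by omega) hea hM hN hN1
  exact spr_of_el hP hm hea h5 ha he hg hA hAi dA

/-- **S3938, plus type.** -/
theorem spr_plus' (hP : S5948Stmt.{0}) {m : ℕ} (hm : 5 ≤ m) (h2 : Fintype.card F = 2 → 9 ≤ m)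
    (h3 : ¬ (Fintype.card F = 3 ∧ m = 5)) : Spr (POmega F (quadFormPlus m F)) := by
  have hq : 2 ≤ Fintype.card F := Fintype.one_lt_card
  have hpp : IsPrimePow (Fintype.card F) := Fintype.isPrimePow_card_of_field
  by_cases h11 : Fintype.card F = 2 ∧ m = 11
  · obtain ⟨hq2, rfl⟩ := h11
    refine core_plus hP (a := 7) (e := 4) (N := 17) rfl (by norm_num) (by norm_num) (by norm_num) (by norm_num) ?_
      (H906.Cov.exists_num hpp (by norm_num) (by norm_num) (by norm_num) (by norm_num) (by norm_num))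
      (by rw [hq2]; norm_num) ?_
    · intro r hr h
      exact (Nat.prime_dvd_prime_iff_eq hr Nat.prime_two).1 (by simpa using h)
    · intro j hj hj6
      rw [hq2]
      interval_cases j <;> decide
  by_cases h12 : Fintype.card F = 2 ∧ m = 12
  · obtain ⟨hq2, rfl⟩ := h12
    refine core_plus hP (a := 8) (e := 4) (N := 17) rfl (by norm_num) (by norm_num) (by norm_num) (by norm_num) ?_
      (H906.Cov.exists_num hpp (by norm_num) (by norm_num) (by norm_num) (by norm_num) (by norm_num))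
      (by rw [hq2]; norm_num) ?_
    · intro r hr h
      exact two_of_dvd (k := 3) hr (a := 8) (e := 4) rfl (by norm_num) h
    · intro j hj hj6
      rw [hq2]
      interval_cases j <;> decide
  by_cases hm5 : m = 5
  · subst hm5
    have hq4 : 4 ≤ Fintype.card F := by
      have h4 : Fintype.card F ≠ 2 := fun h => by have := h2 h; omega
      have h5 : Fintype.card F ≠ 3 := fun h => h3 ⟨h, rfl⟩
      omega
    refine core_plus hP (a := 4) (e := 1) (N := Fintype.card F + 1) rfl (by norm_num) (by norm_num) (by norm_num)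
      (by norm_num) ?_
      (H906.Cov.exists_num hpp (by norm_num) (by norm_num) (by norm_num) (fun h => by omega) (by norm_num))
      (by rw [pow_one]) ?_
    · intro r hr h
      exact two_of_dvd (k := 1) hr (a := 4) (e := 1) rfl (by norm_num) h
    · intro j hj hj2
      obtain rfl : j = 1 := by omega
      rw [pow_one]
      intro hd
      have h6 : (Fintype.card F + 1) / (Fintype.card F + 1).gcd 2 ∣ Fintype.card F + 1 :=
        Nat.div_dvd_of_dvd (Nat.gcd_dvd_left _ _)
      have h7 := Nat.dvd_sub h6 hd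
      have h8 : Fintype.card F + 1 - (Fintype.card F - 1) = 2 := by omega
      rw [h8] at h7
      have h9 := Nat.le_of_dvd (by norm_num) h7
      have h10 : (Fintype.card F + 1).gcd 2 ≤ 2 := Nat.gcd_le_right _ (by norm_num)
      have h11 := Nat.div_mul_cancel (Nat.gcd_dvd_left (Fintype.card F + 1) 2)
      nlinarith
  -- the general case
  obtain ⟨l, hl⟩ := exists_ppd (q := Fintype.card F) (k := 4) hq (by norm_num) (by
    rintro ⟨-, h⟩
    exact absurd h (by decide))
  have hlo : Odd l := ppd_odd hl (by norm_num)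
  have hld : l ∣ Fintype.card F ^ 2 + 1 := by
    have h1 := (hl.iff 4).2 dvd_rfl
    have h3 : Fintype.card F ^ 4 - 1 = (Fintype.card F ^ 2 + 1) * (Fintype.card F ^ 2 - 1) := by
      have := Nat.sq_sub_sq (Fintype.card F ^ 2) 1
      rw [one_pow, ← pow_mul] at this
      exact this
    rw [h3] at h1
    refine (hl.prime.dvd_mul.1 h1).resolve_right fun h4 => ?_
    exact absurd ((hl.iff 2).1 h4) (by decide)
  refine core_plus hP (a := m - 2) (e := 2) (N := l) (by omega) (by omega) hm (by omega) (by norm_num) ?_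
    (H906.Cov.exists_num hpp (by omega) (by omega) (by omega) (fun h => by have := h2 h; omega) (fun h => by omega))
    hld ?_
  · intro r hr h
    exact two_of_dvd (k := 2) hr (a := m - 2) (e := 2) (by omega) (by norm_num) h
  · intro j hj hj4 hd
    have h1 : l.gcd 2 = 1 := Nat.coprime_two_right.2 hlo
    rw [h1, Nat.div_one] at hd
    have := Nat.le_of_dvd hj ((hl.iff j).1 hd)
    omega

end Cfsg.Agent.H604.Spr
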