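import Cfsg.Agent.H604.Spr.Plus

/-!
# S3938: the group `PΩ⁺₁₀(3)` (helper604)

`exists_A3` : the element `(-x, y)` of `Ω⁺₁₀(3)`, `x` of order 41 on the 8-space of minus type, `y` of order 4 on the plane
of minus type; `spr_plus` : `Spr (POmega F (quadFormPlus m F))`, `m ≥ 5`, except `q = 2`, `m ≤ 8`.
-/

set_option autoImplicit false
set_option linter.unusedSectionVars false
set_option linter.style.haveILetI false

namespace Cfsg.Agent.H604.Spr

open Module Cfsg Cfsg.Geo QuadraticMap
open Cfsg.Agent.LieClassical.OrthCore Cfsg.Agent.LieClassical.OrthForms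
open Cfsg.Agent.LieClassical.OrthTrans (Good)
open Cfsg.Agent.LieClassical.OrthFinite
open Cfsg.Agent.H182.Sign Cfsg.Agent.H182.Orth
open Cfsg.Agent.H383.Cov hiding polar_zero_left polar_zero_right polar_sub_left
open Cfsg.Agent.H278.Cov (Red Ext Num)
open Cfsg.Agent.H424.Spr (Spr)
open Cfsg.Agent.H659.CovCore (S5948Stmt)
open scoped MatrixGroups Matrix

theorem polar_prod {F V W : Type*} [Field F] [AddCommGroup V] [Module F V] [AddCommGroup W] [Module F W]
    (Q : QuadraticForm F V) (Q' : QuadraticForm F W) (p p' : V × W) :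
    polar (prodForm Q Q') p p' = polar Q p.1 p'.1 + polar Q' p.2 p'.2 := by
  change Q (p.1 + p'.1) + Q' (p.2 + p'.2) - (Q p.1 + Q' p.2) - (Q p'.1 + Q' p'.2) =
    (Q (p.1 + p'.1) - Q p.1 - Q p'.1) + (Q' (p.2 + p'.2) - Q' p.2 - Q' p'.2)
  ring

theorem polar_hyp {F : Type*} [Field F] (p p' : F × F) :
    polar (hypForm F) p p' = p.1 * p'.2 + p.2 * p'.1 := by
  change (p.1 + p'.1) * (p.2 + p'.2) - p.1 * p.2 - p'.1 * p'.2 = _
  ring

section rot

variable {F P : Type} [Field F] [Field P] [Algebra F P] {QP : QuadraticForm F P}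

theorem rot (h3 : (3 : F) = 0) (hd : finrank F P = 2) {w a : P} (hw : w * w = -1) (hiso : ∀ v, QP (w * v) = QP v)
    (ha : QP a = 1) : QP (a - w * a) = -1 ∧ ∀ l, reflLin QP a (reflLin QP (a - w * a) l) = w * l := by
  have hfd : FiniteDimensional F P := Module.finite_of_finrank_pos (by omega)
  have h2 : (2 : F) ≠ 0 := by
    intro h
    have : (1 : F) = 3 - 2 := by norm_num
    rw [h3, h, sub_zero] at this
    exact one_ne_zero this
  have hB : ∀ u v, polar QP (w * u) (w * v) = polar QP u v := by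
    intro u v
    simp only [polar, ← mul_add, hiso]
  have haa : polar QP a a = 2 := by rw [polar_self, ha]; norm_num
  have hww : polar QP (w * a) (w * a) = 2 := by rw [hB, haa]
  have hwwa : w * (w * a) = -a := by rw [← mul_assoc, hw, neg_one_mul]
  have h0 : polar QP a (w * a) = 0 := by
    have h1 : polar QP a (w * a) = - polar QP a (w * a) := by
      have h4 := hB a (w * a)
      rw [hwwa, polar_neg_right, polar_comm QP (w * a) a] at h4
      exact h4.symm
    have h5 : 2 * polar QP a (w * a) = 0 := by linear_combination h1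
    exact (mul_eq_zero.1 h5).resolve_left h2
  have hb : QP (a - w * a) = -1 := by
    rw [sub_eq_add_neg, Q_add, QuadraticMap.map_neg, hiso, ha, polar_neg_right, h0]
    linear_combination h3
  have hli : LinearIndependent F ![a, w * a] := by
    rw [LinearIndependent.pair_iff]
    intro s t hst
    have h4 : polar QP a (s • a + t • (w * a)) = 0 := by rw [hst, polar_zero_right]
    have h5 : polar QP (w * a) (s • a + t • (w * a)) = 0 := by rw [hst, polar_zero_right]
    rw [polar_add_right, polar_smul_right, polar_smul_right, haa, h0, smul_zero, add_zero, smul_eq_mul] at h4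
    rw [polar_add_right, polar_smul_right, polar_smul_right, hww, polar_comm QP (w * a) a, h0, smul_zero, zero_add,
      smul_eq_mul] at h5
    exact ⟨(mul_eq_zero.1 h4).resolve_right h2, (mul_eq_zero.1 h5).resolve_right h2⟩
  have hspan : Submodule.span F (Set.range ![a, w * a]) = ⊤ :=
    hli.span_eq_top_of_card_eq_finrank' (by rw [Fintype.card_fin, hd])
  refine ⟨hb, fun l => ?_⟩
  have key : (reflLin QP a).comp (reflLin QP (a - w * a)) = LinearMap.mulLeft F w := by
    apply LinearMap.ext_on_range hspan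
    intro i
    fin_cases i
    · change reflLin QP a (reflLin QP (a - w * a) a) = w * a
      rw [reflLin_apply (a - w * a), hb, polar_sub_left, haa, polar_comm QP (w * a) a, h0, sub_zero]
      have e1 : a - ((-1 : F)⁻¹ * 2) • (a - w * a) = w * a + (3 : F) • (a - w * a) := by
        rw [inv_neg, inv_one]
        module
      rw [e1, h3, zero_smul, add_zero, reflLin_apply, h0, mul_zero, zero_smul, sub_zero]
    · change reflLin QP a (reflLin QP (a - w * a) (w * a)) = w * (w * a)
      rw [reflLin_apply (a - w * a), hb, polar_sub_left, hww, h0, hwwa]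
      have e1 : w * a - ((-1 : F)⁻¹ * (0 - 2)) • (a - w * a) = a + (-3 : F) • (a - w * a) := by
        rw [inv_neg, inv_one]
        module
      rw [e1, h3, neg_zero, zero_smul, add_zero, reflLin_apply, haa, ha, inv_one, one_mul]
      module
  exact LinearMap.congr_fun key l

end rot

variable {F : Type} [Field F] [Fintype F]

theorem three_eq (hq : Fintype.card F = 3) : (3 : F) = 0 := by
  have := Nat.cast_card_eq_zero F
  rw [hq] at this
  exact_mod_cast this

theorem one_or_neg (hq : Fintype.card F = 3) {c : F} (hc : c ≠ 0) : c = 1 ∨ c = -1 := by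
  have h1 := FiniteField.pow_card_sub_one_eq_one c hc
  rw [hq] at h1
  have h2 : (c - 1) * (c + 1) = 0 := by linear_combination h1
  rcases mul_eq_zero.1 h2 with h | h
  · left; exact sub_eq_zero.1 h
  · right; linear_combination h

/-- a vector of norm 1 -/
theorem exists_norm_one (hq : Fintype.card F = 3) {P : Type} [Field P] [Algebra F P] [Finite P]
    {QP : QuadraticForm F P} (hnd : Nondeg QP) {w : P} (hw : w * w = -1) (hiso : ∀ v, QP (w * v) = QP v) :
    ∃ a, QP a = 1 := by
  have h3 := three_eq hq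
  have h2 : (2 : F) ≠ 0 := by
    intro h
    have : (1 : F) = 3 - 2 := by norm_num
    rw [h3, h, sub_zero] at this
    exact one_ne_zero this
  obtain ⟨v, hv⟩ : ∃ v, QP v ≠ 0 := by
    by_contra hcon
    push Not at hcon
    have h4 : (1 : P) = 0 := hnd 1 fun y => by rw [polar, hcon, hcon, hcon]; ring
    exact one_ne_zero h4
  rcases one_or_neg hq hv with h | h
  · exact ⟨v, h⟩
  · refine ⟨v + w * v, ?_⟩
    have hB : polar QP (w * v) (w * (w * v)) = polar QP v (w * v) := by
      simp only [polar, ← mul_add, hiso]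
    have hwwv : w * (w * v) = -v := by rw [← mul_assoc, hw, neg_one_mul]
    rw [hwwv, polar_neg_right, polar_comm QP (w * v) v] at hB
    have h5 : 2 * polar QP v (w * v) = 0 := by linear_combination -hB
    have h6 := (mul_eq_zero.1 h5).resolve_left h2
    rw [Q_add, hiso, h, h6]
    linear_combination -h3

section model

variable {P : Type} [Field P] [Algebra F P] [Finite P] {QP : QuadraticForm F P}

/-- the model of the form -/
def QM (QP : QuadraticForm F P) : QuadraticForm F (((P × (P × P)) × (F × F)) × P) :=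
  prodForm (prodForm (prodForm QP (prodForm QP QP)) (hypForm F)) QP

theorem sg_L (hs : Sg QP 1 (-1)) : Sg (prodForm (prodForm QP (prodForm QP QP)) (hypForm F)) 4 (-1) := by
  have h := (hs.prod (hs.prod hs)).prod (sg_hypForm (F := F))
  exact h

/-- **`(-1, w)` is a product of two squares and four reflections** -/
theorem mem_om_of {ι : Type} [Fintype ι] [DecidableEq ι] {Q : QuadraticForm F (ι → F)} (hG : Good Q)
    (hq : Fintype.card F = 3) (hd : finrank F P = 2) {w : P} (hw : w * w = -1) (hiso : ∀ v, QP (w * v) = QP v)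
    {a : P} (ha : QP a = 1) (e : (ι → F) ≃ₗ[F] (((P × (P × P)) × (F × F)) × P)) (he : ∀ v, QM QP (e v) = Q v)
    {G : GL ι F} (hGe : ∀ v, e ((G : Matrix ι ι F) *ᵥ v) = (-(e v).1, w * (e v).2)) : G ∈ omegaGL ⇑Q := by
  have h3 := three_eq hq
  obtain ⟨hb, hrot⟩ := rot h3 hd hw hiso ha
  have hdim : 5 ≤ Fintype.card ι := by
    have := hG.dim
    rwa [Module.finrank_fintype_fun_eq_card] at this
  -- the square root of `-1` on the first part
  let s : Module.End F (((P × (P × P)) × (F × F)) × P) :=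
    ((((LinearMap.mulLeft F w).prodMap ((LinearMap.mulLeft F w).prodMap (LinearMap.mulLeft F w))).prodMap
      LinearMap.id).prodMap LinearMap.id)
  have hs : ∀ y, s y = (((w * y.1.1.1, (w * y.1.1.2.1, w * y.1.1.2.2)), y.1.2), y.2) := fun y => rfl
  have hsQ : ∀ y, QM QP (s y) = QM QP y := by
    intro y
    rw [hs]
    simp only [QM, prodForm_apply, hiso]
  have hw4 : ∀ p : P, w * (w * (w * (w * p))) = p := by
    intro p
    linear_combination (w * w * p - p) * hw
  have hs4 : s ^ 4 = 1 := by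
    apply LinearMap.ext
    intro y
    change s (s (s (s y))) = y
    rw [hs, hs, hs, hs]
    simp only [hw4]
  obtain ⟨S, hS, hSe⟩ := exists_sim_iso (Q := Q) e he hsQ (by norm_num) hs4
  have hSS : S * S ∈ omegaGL ⇑Q := by
    let g : isometryGroup F ⇑Q := ⟨S, hS⟩
    exact ⟨g * g, Cfsg.Agent.H377.mul_self_mem_Omega Q hG.nondeg hdim g, rfl⟩
  -- reflections
  have hrefl : ∀ (f : ((P × (P × P)) × (F × F)) × P) (hf : Q (e.symm f) ≠ 0) (v : ι → F),
      e (refl Q (e.symm f) hf v) = reflLin (QM QP) f (e v) := by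
    intro f hf v
    rw [refl_apply, reflLin_apply, map_sub, map_smul, e.apply_symm_apply, ← he, e.apply_symm_apply]
    congr 3
    simp only [polar, ← he, map_add, e.apply_symm_apply]
  let f₁ : ((P × (P × P)) × (F × F)) × P := ((0, (1, 1)), 0)
  let f₂ : ((P × (P × P)) × (F × F)) × P := ((0, (1, -1)), 0)
  let f₃ : ((P × (P × P)) × (F × F)) × P := (0, a)
  let f₄ : ((P × (P × P)) × (F × F)) × P := (0, a - w * a)
  have hQ1 : QM QP f₁ = 1 := by
    simp only [QM, f₁, prodForm_apply, hypForm_apply, QuadraticMap.map_zero]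
    ring
  have hQ2 : QM QP f₂ = -1 := by
    simp only [QM, f₂, prodForm_apply, hypForm_apply, QuadraticMap.map_zero]
    ring
  have hQ3 : QM QP f₃ = 1 := by
    simp only [QM, f₃, prodForm_apply, QuadraticMap.map_zero, ha]
    ring
  have hQ4 : QM QP f₄ = -1 := by
    simp only [QM, f₄, prodForm_apply, QuadraticMap.map_zero, hb]
    ring
  have k1 : Q (e.symm f₁) = 1 := by rw [← he, e.apply_symm_apply, hQ1]
  have k2 : Q (e.symm f₂) = -1 := by rw [← he, e.apply_symm_apply, hQ2]
  have k3 : Q (e.symm f₃) = 1 := by rw [← he, e.apply_symm_apply, hQ3]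
  have k4 : Q (e.symm f₄) = -1 := by rw [← he, e.apply_symm_apply, hQ4]
  have n1 : Q (e.symm f₁) ≠ 0 := by rw [k1]; exact one_ne_zero
  have n2 : Q (e.symm f₂) ≠ 0 := by rw [k2]; exact neg_ne_zero.2 one_ne_zero
  have n3 : Q (e.symm f₃) ≠ 0 := by rw [k3]; exact one_ne_zero
  have n4 : Q (e.symm f₄) ≠ 0 := by rw [k4]; exact neg_ne_zero.2 one_ne_zero
  have m1 := hG.refl_mul_refl_mem n3 n1 (k3.trans k1.symm)
  have m2 := hG.refl_mul_refl_mem n4 n2 (k4.trans k2.symm)
  -- the actions in the model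
  have r1 : ∀ y, reflLin (QM QP) f₁ y = ((y.1.1, (-y.1.2.2, -y.1.2.1)), y.2) := by
    intro y
    rw [reflLin_apply, hQ1, QM, polar_prod, polar_prod, polar_hyp, inv_one, one_mul]
    have e1 : polar QP f₁.2 y.2 = 0 := polar_zero_left _ _
    have e2 : polar (prodForm QP (prodForm QP QP)) f₁.1.1 y.1.1 = 0 := polar_zero_left _ _
    rw [e1, e2]
    refine Prod.ext (Prod.ext ?_ (Prod.ext ?_ ?_)) ?_
    · change y.1.1 - _ • (0 : P × (P × P)) = y.1.1
      rw [smul_zero, sub_zero]
    · change y.1.2.1 - (0 + (1 * y.1.2.2 + 1 * y.1.2.1) + 0) * 1 = -y.1.2.2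
      ring
    · change y.1.2.2 - (0 + (1 * y.1.2.2 + 1 * y.1.2.1) + 0) * 1 = -y.1.2.1
      ring
    · change y.2 - _ • (0 : P) = y.2
      rw [smul_zero, sub_zero]
  have r2 : ∀ y, reflLin (QM QP) f₂ y = ((y.1.1, (y.1.2.2, y.1.2.1)), y.2) := by
    intro y
    rw [reflLin_apply, hQ2, QM, polar_prod, polar_prod, polar_hyp, inv_neg, inv_one, neg_one_mul]
    have e1 : polar QP f₂.2 y.2 = 0 := polar_zero_left _ _
    have e2 : polar (prodForm QP (prodForm QP QP)) f₂.1.1 y.1.1 = 0 := polar_zero_left _ _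
    rw [e1, e2]
    refine Prod.ext (Prod.ext ?_ (Prod.ext ?_ ?_)) ?_
    · change y.1.1 - _ • (0 : P × (P × P)) = y.1.1
      rw [smul_zero, sub_zero]
    · change y.1.2.1 - (-(0 + (1 * y.1.2.2 + (-1) * y.1.2.1) + 0)) * 1 = y.1.2.2
      ring
    · change y.1.2.2 - (-(0 + (1 * y.1.2.2 + (-1) * y.1.2.1) + 0)) * (-1) = y.1.2.1
      ring
    · change y.2 - _ • (0 : P) = y.2
      rw [smul_zero, sub_zero]
  have r3 : ∀ y, reflLin (QM QP) f₃ y = (y.1, reflLin QP a y.2) := by
    intro y
    rw [reflLin_apply, reflLin_apply, hQ3, ha, QM, polar_prod]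
    have e1 : polar (prodForm (prodForm QP (prodForm QP QP)) (hypForm F)) f₃.1 y.1 = 0 := polar_zero_left _ _
    rw [e1, zero_add]
    refine Prod.ext ?_ rfl
    change y.1 - _ • (0 : (P × (P × P)) × (F × F)) = y.1
    rw [smul_zero, sub_zero]
  have r4 : ∀ y, reflLin (QM QP) f₄ y = (y.1, reflLin QP (a - w * a) y.2) := by
    intro y
    rw [reflLin_apply, reflLin_apply, hQ4, hb, QM, polar_prod]
    have e1 : polar (prodForm (prodForm QP (prodForm QP QP)) (hypForm F)) f₄.1 y.1 = 0 := polar_zero_left _ _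
    rw [e1, zero_add]
    refine Prod.ext ?_ rfl
    change y.1 - _ • (0 : (P × (P × P)) × (F × F)) = y.1
    rw [smul_zero, sub_zero]
  -- the product
  have hprod : glEquiv ι F G = glEquiv ι F (S * S) * (refl Q (e.symm f₁) n1 * refl Q (e.symm f₃) n3) *
      (refl Q (e.symm f₂) n2 * refl Q (e.symm f₄) n4) := by
    apply LinearEquiv.ext
    intro v
    apply e.injective
    change e ((G : Matrix ι ι F) *ᵥ v) = e (((S * S : GL ι F) : Matrix ι ι F) *ᵥ
      (refl Q (e.symm f₁) n1 (refl Q (e.symm f₃) n3 (refl Q (e.symm f₂) n2 (refl Q (e.symm f₄) n4 v)))))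
    rw [hGe, Units.val_mul, ← Matrix.mulVec_mulVec, hSe, hSe, hrefl, hrefl, hrefl, hrefl, r4, r2, r3, r1, hs, hs]
    refine Prod.ext (Prod.ext (Prod.ext ?_ (Prod.ext ?_ ?_)) (Prod.ext ?_ ?_)) ?_
    · change -(e v).1.1.1 = w * (w * (e v).1.1.1)
      rw [← mul_assoc, hw, neg_one_mul]
    · change -(e v).1.1.2.1 = w * (w * (e v).1.1.2.1)
      rw [← mul_assoc, hw, neg_one_mul]
    · change -(e v).1.1.2.2 = w * (w * (e v).1.1.2.2)
      rw [← mul_assoc, hw, neg_one_mul]
    · rfl
    · rfl
    · exact (hrot _).symm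
  rw [mem_om hG, hprod]
  exact (E Q).mul_mem ((E Q).mul_mem ((mem_om hG).1 hSS) m1) m2

end model

theorem exists_A3 (hq : Fintype.card F = 3) {M : ℕ} (hM : Num (Fintype.card F) (2 * 5) (2 * 4) M) :
    ∃ A : GL (Fin 5 ⊕ Fin 5) F, A ∈ omegaGL ⇑(plusForm 5 F) ∧ (∃ i, NumEl 4 (A ^ i)) ∧
      Dims A {0, 2 * 1, 2 * 4, 2 * 5} := by
  have hq2 : 2 ≤ Fintype.card F := Fintype.one_lt_card
  have hMd := num_dvd (by norm_num) hM
  have hMo := num_odd hq2 (by norm_num) hM
  obtain ⟨L, _, _, _, Q, u, s1, s2, s3, s4, s5⟩ := exists_negN (F := F) (k := 4) (by norm_num) hMd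
  obtain ⟨P, _, _, _, QP, w, t1, t2, t3, t4, t5⟩ := exists_negN (F := F) (k := 1) (N := Fintype.card F ^ 1 + 1)
    (by norm_num) dvd_rfl
  rw [hq] at t3
  have hfL : FiniteDimensional F L := Module.Finite.of_finite
  have hfP : FiniteDimensional F P := Module.Finite.of_finite
  have hM1 : M ≠ 1 := by
    have := hM.big
    omega
  have hM0 : M ≠ 0 := by
    have := hM.big
    omega
  have hw4 : w ^ 4 = 1 := by
    have := pow_orderOf_eq_one w
    rw [t3] at this
    exact this
  have hw2 : w * w = -1 := by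
    have h1 : (w * w - 1) * (w * w + 1) = 0 := by linear_combination hw4
    rcases mul_eq_zero.1 h1 with h | h
    · exfalso
      have h2 : w ^ 2 = 1 := by linear_combination h
      have h3 := orderOf_dvd_of_pow_eq_one h2
      rw [t3] at h3
      exact absurd h3 (by decide)
    · linear_combination h
  obtain ⟨a, ha⟩ := exists_norm_one hq t1.nondeg hw2 t5
  -- the isometries
  have hs := s1.prod t1
  rw [show 4 + 1 = 5 from rfl, show (-1 : ℤ) * -1 = 1 by norm_num] at hs
  obtain ⟨e, he⟩ := Sg.exists_equiv (sg_plus (F := F) 5) hs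
  obtain ⟨e₂, he₂⟩ := Sg.exists_equiv s1 (sg_L t1)
  have hG : Good (plusForm 5 F) := good_plusForm (by norm_num)
  have hxQ : ∀ v : L × P, prodForm Q QP (((LinearMap.mulLeft F u).prodMap (1 : Module.End F P)) v) =
      prodForm Q QP v := by
    intro v
    change Q (u * v.1) + QP v.2 = Q v.1 + QP v.2
    rw [s5]
  have p1 : (LinearMap.mulLeft F u : Module.End F L) ^ M = 1 := by
    rw [mulLeft_pow, mulLeft_eq_one, ← s3, pow_orderOf_eq_one]
  have hxM : (((LinearMap.mulLeft F u).prodMap (1 : Module.End F P) : Module.End F (L × P))) ^ M = 1 := by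
    rw [pair_pow, p1, one_pow]
    rfl
  obtain ⟨X, hX, hXe⟩ := exists_sim_iso (Q := plusForm 5 F) e he hxQ hM0 hxM
  have hX' : X ∈ omegaGL ⇑(plusForm 5 F) :=
    mem_omegaGL_of_odd (sg_plus (F := F) 5).nondeg (by rw [card_ix]; norm_num) hX hMo
      ((Sim.pow_eq_one_iff ⟨e, hXe⟩ M).2 hxM)
  have hgQ : ∀ v : L × P, prodForm Q QP (((LinearMap.mulLeft F (-1) : Module.End F L).prodMap
      (LinearMap.mulLeft F w : Module.End F P)) v) = prodForm Q QP v := by
    intro v
    change Q (-1 * v.1) + QP (w * v.2) = Q v.1 + QP v.2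
    rw [neg_one_mul, QuadraticMap.map_neg, t5]
  have hg4 : ((LinearMap.mulLeft F (-1) : Module.End F L).prodMap (LinearMap.mulLeft F w : Module.End F P) :
      Module.End F (L × P)) ^ 4 = 1 := by
    rw [pair_pow, mulLeft_pow, mulLeft_pow, hw4, Even.neg_one_pow (by decide : Even 4), mulLeft_eq_one.2 rfl,
      mulLeft_eq_one.2 rfl]
    rfl
  obtain ⟨G, hGi, hGe⟩ := exists_sim_iso (Q := plusForm 5 F) e he hgQ (by norm_num) hg4
  have hG' : G ∈ omegaGL ⇑(plusForm 5 F) := by
    refine mem_om_of hG hq (by rw [t2]) hw2 t5 ha (e.trans (e₂.prodCongr (LinearEquiv.refl F P))) ?_ ?_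
    · intro v
      rw [← he]
      change prodForm (prodForm QP (prodForm QP QP)) (hypForm F) (e₂ (e v).1) + QP (e v).2 = Q (e v).1 + QP (e v).2
      rw [he₂]
    · intro v
      change (e₂ (e ((G : Matrix (Fin 5 ⊕ Fin 5) (Fin 5 ⊕ Fin 5) F) *ᵥ v)).1,
        (e ((G : Matrix (Fin 5 ⊕ Fin 5) (Fin 5 ⊕ Fin 5) F) *ᵥ v)).2) = (-e₂ (e v).1, w * (e v).2)
      rw [hGe]
      change (e₂ (-1 * (e v).1), w * (e v).2) = (-e₂ (e v).1, w * (e v).2)
      rw [neg_one_mul, map_neg]
  -- the element
  have hsim : Sim (X * G) ((LinearMap.mulLeft F (-u) : Module.End F L).prodMap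
      (LinearMap.mulLeft F w : Module.End F P)) := by
    refine ⟨e, fun v => ?_⟩
    rw [Units.val_mul, ← Matrix.mulVec_mulVec, hXe, hGe]
    refine Prod.ext ?_ rfl
    change u * (-1 * (e v).1) = -u * (e v).1
    ring
  have hc : M.Coprime 4 := by
    have h1 : M.Coprime 2 := Nat.coprime_two_right.2 hMo
    exact Nat.Coprime.pow_right 2 h1
  have huM : u ^ M = 1 := by rw [← s3, pow_orderOf_eq_one]
  obtain ⟨j, hj1, hj2⟩ := Nat.chineseRemainder hc 1 0
  obtain ⟨k, hk1, hk2⟩ := Nat.chineseRemainder hc 0 1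
  have hpj : ((LinearMap.mulLeft F (-u) : Module.End F L).prodMap (LinearMap.mulLeft F w : Module.End F P) :
      Module.End F (L × P)) ^ j = (LinearMap.mulLeft F u : Module.End F L).prodMap (1 : Module.End F P) := by
    have h1 : (-u) ^ j = u := by
      have h2 : Even j := by
        rw [even_iff_two_dvd]
        exact (by norm_num : 2 ∣ 4).trans ((Nat.modEq_zero_iff_dvd).1 hj2)
      rw [h2.neg_pow]
      have h3 := pow_eq_pow_of_modEq hj1 huM
      rwa [pow_one] at h3
    have h2 : w ^ j = 1 := by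
      have h3 := pow_eq_pow_of_modEq hj2 hw4
      rwa [pow_zero] at h3
    rw [pair_pow, mulLeft_pow, mulLeft_pow, h1, h2, mulLeft_eq_one.2 rfl]
  have hpk : ((LinearMap.mulLeft F (-u) : Module.End F L).prodMap (LinearMap.mulLeft F w : Module.End F P) :
      Module.End F (L × P)) ^ k = (LinearMap.mulLeft F (-1) : Module.End F L).prodMap
        (LinearMap.mulLeft F w : Module.End F P) := by
    have h1 : (-u) ^ k = -1 := by
      have h2 : Odd k := by
        rw [Nat.odd_iff]
        have h3 : k % 4 = 1 % 4 := hk2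
        omega
      rw [h2.neg_pow]
      have h3 := pow_eq_pow_of_modEq hk1 huM
      rw [h3, pow_zero]
    have h2 : w ^ k = w := by
      have h3 := pow_eq_pow_of_modEq hk2 hw4
      rwa [pow_one] at h3
    rw [pair_pow, mulLeft_pow, mulLeft_pow, h1, h2]
  refine ⟨X * G, (omegaGL _).mul_mem hX' hG', ⟨j, ?_⟩, ?_⟩
  · refine numEl_of (V := P) (by norm_num) (by rw [card_ix]; exact hM) s3 s2 ?_
    have h1 := hsim.pow j
    rw [hpj] at h1
    exact h1
  · apply hsim.dims
    intro W hW
    have hWj : ∀ v ∈ W, (LinearMap.mulLeft F u v.1, v.2) ∈ W := by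
      intro v hv
      have h := H383.Cov.inv_pow hW j v hv
      rw [hpj] at h
      exact h
    have hWk : ∀ v ∈ W, (-v.1, w * v.2) ∈ W := by
      intro v hv
      have h := H383.Cov.inv_pow hW k v hv
      rw [hpk] at h
      change ((-1 : L) * v.1, w * v.2) ∈ W at h
      rwa [neg_one_mul] at h
    rw [split_inv (mulLeft_free (ne_one_of_order s3 hM1)) hWj]
    have hL : ∀ v ∈ W.comap (LinearMap.inl F L P), u * v ∈ W.comap (LinearMap.inl F L P) := fun v hv => hWj _ hv
    have hPi : ∀ v ∈ W.comap (LinearMap.inr F L P), w * v ∈ W.comap (LinearMap.inr F L P) := by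
      intro v hv
      have h := hWk _ hv
      change ((-(0 : L)), w * v) ∈ W at h
      rw [neg_zero] at h
      exact h
    have i1 := irr_mul (F := F) (ζ := u) (by
      rw [s2, Nat.card_eq_fintype_card, s3]
      exact num_not_dvd hM) s4 hL
    have i2 := irr_mul (F := F) (ζ := w) (by
      rw [t2, Nat.card_eq_fintype_card, t3, hq]
      intro j hj hj2
      obtain rfl : j = 1 := by omega
      decide) t4 hPi
    have k1 : finrank F (W.comap (LinearMap.inl F L P)) = 0 ∨ finrank F (W.comap (LinearMap.inl F L P)) = 8 := by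
      rcases i1 with h | h
      · left; rw [h, finrank_bot]
      · right; rw [h, finrank_top, s2]
    have k2 : finrank F (W.comap (LinearMap.inr F L P)) = 0 ∨ finrank F (W.comap (LinearMap.inr F L P)) = 2 := by
      rcases i2 with h | h
      · left; rw [h, finrank_bot]
      · right; rw [h, finrank_top, t2]
    simp only [Set.mem_insert_iff, Set.mem_singleton_iff]
    omega

/-- **S3938, plus type.** -/
theorem spr_plus (hP : S5948Stmt.{0}) {m : ℕ} (hm : 5 ≤ m) (h2 : Fintype.card F = 2 → 9 ≤ m) :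
    Spr (POmega F (quadFormPlus m F)) := by
  by_cases h3 : Fintype.card F = 3 ∧ m = 5
  · obtain ⟨hq, rfl⟩ := h3
    have hpp : IsPrimePow (Fintype.card F) := Fintype.isPrimePow_card_of_field
    obtain ⟨M, hM⟩ := H906.Cov.exists_num (n := 2 * 5) (k := 2 * 4) hpp (by norm_num) (by norm_num) (by norm_num)
      (fun h => by omega) (by norm_num)
    obtain ⟨A, hA, ⟨i, hAi⟩, dA⟩ := exists_A3 hq hM
    exact spr_of_el hP (a := 4) (e := 1) rfl (by norm_num) (by norm_num) (by norm_num) (by norm_num)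
      (fun r hr h => two_of_dvd (k := 1) hr (a := 4) (e := 1) rfl (by norm_num) h) hA hAi dA
  · exact spr_plus' hP hm h2 h3

end Cfsg.Agent.H604.Spr
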