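import Cfsg.Agent.LieClassical.OrthSimple
import Cfsg.Agent.LieClassical.OrthFinite

/-!
# S3938, orthogonal groups of plus type: moving a subspace out of a lattice (helper604)

`move` : `R` a nondegenerate subspace of dimension at least 7, `𝓔` a set of endomorphisms without invariant subspaces of
dimension 1 in `R`, `U` a subspace of `R` different from `0` and `R`: some `g ∈ Ω` trivial on `R^⊥` moves `U` to a subspace
which is not `𝓔`-invariant.
-/

set_option autoImplicit false

namespace Cfsg.Agent.H604.Spr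

open QuadraticMap hiding proj
open Module
open Cfsg.Agent.LieClassical.OrthCore Cfsg.Agent.LieClassical.OrthTrans Cfsg.Agent.LieClassical.OrthSimple
open Cfsg.Agent.LieClassical.OrthFinite

section Sep

variable {F V : Type*} [Field F] [AddCommGroup V] [Module F V] {Q : QuadraticForm F V}

theorem exists_sep2 (hQ : Nondeg Q) {a b c : V} (h : ∀ s t : F, c ≠ s • a + t • b) :
    ∃ y, polar Q a y = 0 ∧ polar Q b y = 0 ∧ polar Q c y ≠ 0 := by
  by_contra hcon
  push Not at hcon
  have h1 := mem_span_of_iInf_ker_le_ker (L := ![(polarBilin Q a : V →ₗ[F] F), (polarBilin Q b : V →ₗ[F] F)])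
    (K := (polarBilin Q c : V →ₗ[F] F)) (by
      intro y hy
      simp only [Submodule.mem_iInf, Fin.forall_fin_two, Matrix.cons_val_zero, Matrix.cons_val_one,
        LinearMap.mem_ker, polarBilin_apply_apply] at hy ⊢
      exact hcon y hy.1 hy.2)
  rw [Matrix.range_cons, Matrix.range_cons, Matrix.range_empty, Set.union_empty, Set.singleton_union,
    Submodule.mem_span_pair] at h1
  obtain ⟨s, t, hst⟩ := h1
  apply h s t
  rw [← sub_eq_zero]
  apply hQ
  intro y
  have h2 := LinearMap.congr_fun hst y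
  simp only [LinearMap.add_apply, LinearMap.smul_apply, polarBilin_apply_apply, smul_eq_mul] at h2
  rw [polar_sub_left, polar_add_left, polar_smul_left, polar_smul_left, smul_eq_mul, smul_eq_mul, h2, sub_self]

variable [Finite F] [FiniteDimensional F V]

theorem exists_hyp2 (hQ : Nondeg Q) (hd : 7 ≤ finrank F V) (a b : V) :
    ∃ p p', Hyp Q p p' ∧ polar Q a p = 0 ∧ polar Q b p = 0 ∧ polar Q a p' = 0 ∧ polar Q b p' = 0 := by
  let f : V →ₗ[F] (Fin 2 → F) := LinearMap.pi ![(polarBilin Q a : V →ₗ[F] F), (polarBilin Q b : V →ₗ[F] F)]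
  have hf : ∀ y, y ∈ LinearMap.ker f ↔ polar Q a y = 0 ∧ polar Q b y = 0 := by
    intro y
    rw [LinearMap.mem_ker, funext_iff, Fin.forall_fin_two]
    exact Iff.rfl
  set X := LinearMap.ker f with hX
  set S : Submodule F V := Submodule.span F {a, b} with hS
  have h1 := LinearMap.finrank_range_add_finrank_ker f
  have h2 : finrank F (LinearMap.range f) ≤ 2 := by
    refine le_trans (Submodule.finrank_le _) ?_
    rw [Module.finrank_fin_fun]
  have h3 : finrank F S ≤ 2 := by
    classical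
    have h := finrank_span_finset_le_card (R := F) ({a, b} : Finset V)
    rw [Set.finrank, Finset.coe_pair] at h
    exact h.trans Finset.card_le_two
  obtain ⟨C, hC1, hC2⟩ : ∃ C : Submodule F V, C ≤ X ∧ Disjoint C S ∧ 3 ≤ finrank F C := by
    obtain ⟨C', hC'⟩ := Submodule.exists_isCompl ((X ⊓ S).comap X.subtype)
    refine ⟨C'.map X.subtype, ?_, ?_, ?_⟩
    · rintro _ ⟨y, -, rfl⟩
      exact y.2
    · rw [Submodule.disjoint_def]
      rintro _ ⟨y, hy, rfl⟩ hyS
      have h4 : y ∈ (X ⊓ S).comap X.subtype := ⟨y.2, hyS⟩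
      have h5 := Submodule.disjoint_def.1 hC'.disjoint y h4 hy
      rw [h5]
      rfl
    · rw [Submodule.finrank_map_subtype_eq]
      have h4 := Submodule.finrank_add_eq_of_isCompl hC'
      rw [← hX] at h1
      have h5 : finrank F ((X ⊓ S).comap X.subtype) ≤ 2 := by
        have h6 : finrank F (((X ⊓ S).comap X.subtype).map X.subtype) = finrank F ((X ⊓ S).comap X.subtype) :=
          Submodule.finrank_map_subtype_eq _ _
        rw [← h6]
        refine (Submodule.finrank_mono ?_).trans h3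
        rintro _ ⟨y, hy, rfl⟩
        exact hy.2
      omega
  obtain ⟨hC2, hC3⟩ := hC2
  obtain ⟨p, hp, hp0, hQp⟩ := exists_sing_mem (Q := Q) C hC3
  have hpX := (hf p).1 (hC1 hp)
  obtain ⟨y, hay, hby, hpy⟩ := exists_sep2 hQ (a := a) (b := b) (c := p) (by
    intro s t h
    apply hp0
    refine Submodule.disjoint_def.1 hC2 p hp ?_
    rw [h]
    exact Submodule.mem_span_pair.2 ⟨s, t, rfl⟩)
  obtain ⟨y1, e1, e2, e3⟩ : ∃ y1, polar Q p y1 = 1 ∧ polar Q a y1 = 0 ∧ polar Q b y1 = 0 :=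
    ⟨(polar Q p y)⁻¹ • y, by rw [polar_smul_right, smul_eq_mul, inv_mul_cancel₀ hpy],
      by rw [polar_smul_right, hay, smul_zero], by rw [polar_smul_right, hby, smul_zero]⟩
  refine ⟨p, y1 + (-Q y1) • p, ⟨hQp, ?_, ?_⟩, hpX.1, hpX.2, ?_, ?_⟩
  · rw [Q_add, QuadraticMap.map_smul, hQp, polar_smul_right, polar_comm Q y1 p, e1]
    simp
  · rw [polar_add_right, polar_smul_right, polar_self_of_sing hQp, e1]
    simp
  · rw [polar_add_right, polar_smul_right, e2, hpX.1]
    simp
  · rw [polar_add_right, polar_smul_right, e3, hpX.2]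
    simp

theorem exists_sing_sep (hQ : Nondeg Q) (hd : 7 ≤ finrank F V) {a b c : V} (h : ∀ s t : F, c ≠ s • a + t • b) :
    ∃ w, Q w = 0 ∧ polar Q a w = 0 ∧ polar Q b w = 0 ∧ polar Q c w ≠ 0 := by
  obtain ⟨p, p', hp, ha, hb, ha', hb'⟩ := exists_hyp2 hQ hd a b
  obtain ⟨y, hay, hby, hcy⟩ := exists_sep2 hQ h
  by_cases h1 : polar Q c p = 0
  · by_cases h2 : polar Q c p' = 0
    · refine ⟨p + proj Q p p' y - Q (proj Q p p' y) • p', sing_vec hp (polar_proj_left hp y) (polar_proj_right hp y),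
        ?_, ?_, ?_⟩
      · rw [polar_sub_right, polar_add_right, polar_smul_right, proj, polar_sub_right, polar_sub_right,
          polar_smul_right, polar_smul_right, ha, ha', hay]
        simp
      · rw [polar_sub_right, polar_add_right, polar_smul_right, proj, polar_sub_right, polar_sub_right,
          polar_smul_right, polar_smul_right, hb, hb', hby]
        simp
      · rw [polar_sub_right, polar_add_right, polar_smul_right, proj, polar_sub_right, polar_sub_right,
          polar_smul_right, polar_smul_right, h1, h2]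
        simpa using hcy
    · exact ⟨p', hp.right, ha', hb', h2⟩
  · exact ⟨p, hp.left, ha, hb, h1⟩

end Sep

section Move

variable {F V : Type*} [Field F] [Finite F] [AddCommGroup V] [Module F V] [FiniteDimensional F V]
  {Q : QuadraticForm F V}

/-- `X` is invariant under the set `𝓔` -/
def Inv (𝓔 : Set (Module.End F V)) (X : Submodule F V) : Prop := ∀ e ∈ 𝓔, ∀ v ∈ X, e v ∈ X

omit [Finite F] [FiniteDimensional F V] in
theorem Inv.inf {𝓔 : Set (Module.End F V)} {X Y : Submodule F V} (hX : Inv 𝓔 X) (hY : Inv 𝓔 Y) : Inv 𝓔 (X ⊓ Y) :=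
  fun e he v hv => ⟨hX e he v hv.1, hY e he v hv.2⟩

/-- the elements of `Ω` trivial on `R^⊥` -/
def Gam (Q : QuadraticForm F V) (R : Submodule F V) : Subgroup (V ≃ₗ[F] V) where
  carrier := {g | g ∈ E Q ∧ ∀ v, (∀ r ∈ R, polar Q r v = 0) → g v = v}
  mul_mem' {g h} hg hh := ⟨(E Q).mul_mem hg.1 hh.1, fun v hv => by
    change g (h v) = v
    rw [hh.2 v hv, hg.2 v hv]⟩
  one_mem' := ⟨(E Q).one_mem, fun v _ => rfl⟩
  inv_mem' {g} hg := ⟨(E Q).inv_mem hg.1, fun v hv => by
    change g.symm v = v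
    rw [LinearEquiv.symm_apply_eq]
    exact (hg.2 v hv).symm⟩

omit [Finite F] [FiniteDimensional F V] in
theorem siegel_mem_Gam {R : Submodule F V} {z w : V} (hz : Q z = 0) (hzw : polar Q z w = 0) (hzR : z ∈ R)
    (hwR : w ∈ R) : siegel Q z w hz hzw ∈ Gam Q R := by
  refine ⟨siegel_mem_E _ _, fun v hv => ?_⟩
  rw [siegel_apply, hv z hzR, hv w hwR]
  simp

omit [Finite F] [FiniteDimensional F V] in
theorem map_mul_eq (X : Submodule F V) (g h : V ≃ₗ[F] V) :
    X.map ((g * h : V ≃ₗ[F] V) : V →ₗ[F] V) = (X.map (h : V →ₗ[F] V)).map (g : V →ₗ[F] V) := by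
  rw [← Submodule.map_comp]
  rfl

/-- **Moving a subspace.** -/
theorem move {R : Submodule F V} (hR : Nondeg (Q.comp R.subtype)) (hd : 7 ≤ finrank F R)
    {𝓔 : Set (Module.End F V)} (h2 : ∀ X ≤ R, X ≠ ⊥ → Inv 𝓔 X → 2 ≤ finrank F X) {U : Submodule F V} (hU : U ≤ R)
    (hU0 : U ≠ ⊥) (hUR : U ≠ R) : ∃ g ∈ Gam Q R, ¬ Inv 𝓔 (U.map (g : V →ₗ[F] V)) := by
  classical
  by_contra hcon
  push Not at hcon
  have hpol : ∀ x y : R, polar (Q.comp R.subtype) x y = polar Q (x : V) (y : V) := fun x y => by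
    simp only [polar, QuadraticMap.comp_apply, map_add, Submodule.subtype_apply]
  -- a minimal member of the lattice
  have hex : ∃ n : ℕ, ∃ X ≤ R, X ≠ ⊥ ∧ finrank F X = n ∧ ∀ g ∈ Gam Q R, Inv 𝓔 (X.map (g : V →ₗ[F] V)) :=
    ⟨_, U, hU, hU0, rfl, hcon⟩
  obtain ⟨X, hXR, hX0, hXn, hXinv⟩ := Nat.find_spec hex
  have hmin : ∀ Y ≤ R, Y ≠ ⊥ → (∀ g ∈ Gam Q R, Inv 𝓔 (Y.map (g : V →ₗ[F] V))) → finrank F X ≤ finrank F Y := by
    intro Y h1 h3 h4
    rw [hXn]
    exact Nat.find_min' hex ⟨Y, h1, h3, rfl, h4⟩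
  have hXlt : finrank F X < finrank F R := by
    refine (hmin U hU hU0 hcon).trans_lt ?_
    exact Submodule.finrank_lt_finrank_of_lt (lt_of_le_of_ne hU hUR)
  have hX2 : 2 ≤ finrank F X := by
    refine h2 X hXR hX0 ?_
    have := hXinv 1 (Gam Q R).one_mem
    have e1 : X.map ((1 : V ≃ₗ[F] V) : V →ₗ[F] V) = X := Submodule.map_id X
    rwa [e1] at this
  have key : ∀ g ∈ Gam Q R, (∃ x ∈ X, x ≠ 0 ∧ g x = x) → ∀ x ∈ X, g x ∈ X := by
    rintro g hg ⟨x, hx, hx0, hgx⟩ y hy
    have hne : X ⊓ X.map (g : V →ₗ[F] V) ≠ ⊥ := by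
      intro h
      apply hx0
      have h1 : x ∈ X ⊓ X.map (g : V →ₗ[F] V) := ⟨hx, ⟨x, hx, hgx⟩⟩
      rw [h] at h1
      exact (Submodule.mem_bot F).1 h1
    have h1 := hmin _ ((inf_le_left : X ⊓ X.map (g : V →ₗ[F] V) ≤ X).trans hXR) hne (by
      intro k hk
      rw [Submodule.map_inf _ k.injective]
      refine Inv.inf (hXinv k hk) ?_
      rw [← map_mul_eq]
      exact hXinv _ ((Gam Q R).mul_mem hk hg))
    have h3 : X ⊓ X.map (g : V →ₗ[F] V) = X :=
      Submodule.eq_of_le_of_finrank_le (inf_le_left : X ⊓ X.map (g : V →ₗ[F] V) ≤ X) h1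
    have h4 : X ≤ X.map (g : V →ₗ[F] V) := inf_eq_left.1 h3
    have h5 : X = X.map (g : V →ₗ[F] V) := Submodule.eq_of_le_of_finrank_le h4
      (LinearEquiv.finrank_map_eq g X).le
    rw [h5]
    exact ⟨y, hy, rfl⟩
  -- singular vectors orthogonal to two independent vectors of `X`
  have keyA : ∀ x₀ ∈ X, ∀ x₁ ∈ X, x₀ ≠ 0 → (∀ c : F, x₁ ≠ c • x₀) → ∀ z ∈ R, Q z = 0 → polar Q x₀ z = 0 →
      polar Q x₁ z = 0 → z ∈ X := by
    intro x₀ h₀ x₁ h₁ h0 hind z hzR hz hz0 hz1
    by_cases hsp : ∃ s t : F, x₁ = s • z + t • x₀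
    · obtain ⟨s, t, hst⟩ := hsp
      have hs : s ≠ 0 := by
        rintro rfl
        rw [zero_smul, zero_add] at hst
        exact hind t hst
      have h3 : z = s⁻¹ • (x₁ - t • x₀) := by
        rw [hst, add_sub_cancel_right, smul_smul, inv_mul_cancel₀ hs, one_smul]
      rw [h3]
      exact X.smul_mem _ (X.sub_mem h₁ (X.smul_mem _ h₀))
    · push Not at hsp
      obtain ⟨w, hw, hzw, h0w, h1w⟩ := exists_sing_sep (Q := Q.comp R.subtype) hR hd (a := ⟨z, hzR⟩)
        (b := ⟨x₀, hXR h₀⟩) (c := ⟨x₁, hXR h₁⟩) (by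
          intro s t h
          exact hsp s t (congrArg Subtype.val h))
      rw [hpol] at hzw h0w h1w
      change Q (w : V) = 0 at hw
      change polar Q z w = 0 at hzw
      change polar Q x₀ w = 0 at h0w
      change polar Q x₁ w ≠ 0 at h1w
      have h3 := key (siegel Q z w hz hzw) (siegel_mem_Gam hz hzw hzR w.2) ⟨x₀, h₀, h0, by
        rw [siegel_apply, polar_comm Q z x₀, hz0, polar_comm Q _ x₀, h0w]
        simp⟩ x₁ h₁
      rw [siegel_apply, polar_comm Q z x₁, hz1, polar_comm Q _ x₁] at h3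
      simp only [zero_smul, add_zero, mul_zero, sub_zero] at h3
      have h4 : polar Q x₁ w • z ∈ X := by
        have h5 := X.sub_mem h₁ h3
        rwa [sub_sub_cancel] at h5
      have h5 := X.smul_mem (polar Q x₁ w)⁻¹ h4
      rwa [smul_smul, inv_mul_cancel₀ h1w, one_smul] at h5
  -- all vectors orthogonal to two independent vectors of `X`
  have keyB : ∀ x₀ ∈ X, ∀ x₁ ∈ X, x₀ ≠ 0 → (∀ c : F, x₁ ≠ c • x₀) → (∃ p p' : R, Hyp (Q.comp R.subtype) p p' ∧
      polar Q x₀ p = 0 ∧ polar Q x₁ p = 0 ∧ polar Q x₀ p' = 0 ∧ polar Q x₁ p' = 0 ∧ (p : V) ∈ X ∧ (p' : V) ∈ X) ∧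
      ∀ v ∈ R, polar Q x₀ v = 0 → polar Q x₁ v = 0 → v ∈ X := by
    intro x₀ h₀ x₁ h₁ h0 hind
    obtain ⟨p, p', hp, ha, hb, ha', hb'⟩ := exists_hyp2 (Q := Q.comp R.subtype) hR hd ⟨x₀, hXR h₀⟩ ⟨x₁, hXR h₁⟩
    rw [hpol] at ha hb ha' hb'
    change polar Q x₀ p = 0 at ha
    change polar Q x₁ p = 0 at hb
    change polar Q x₀ p' = 0 at ha'
    change polar Q x₁ p' = 0 at hb'
    have hpX : (p : V) ∈ X := keyA x₀ h₀ x₁ h₁ h0 hind p p.2 hp.left ha hb
    have hpX' : (p' : V) ∈ X := keyA x₀ h₀ x₁ h₁ h0 hind p' p'.2 hp.right ha' hb'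
    refine ⟨⟨p, p', hp, ha, hb, ha', hb', hpX, hpX'⟩, ?_⟩
    intro v hv hv0 hv1
    set v' : R := proj (Q.comp R.subtype) p p' ⟨v, hv⟩ with hv'
    have e1 : (v' : V) = v - polar Q p' v • (p : V) - polar Q p v • (p' : V) := by
      rw [hv', proj, hpol, hpol]
      rfl
    have h3 : ((p + v' - (Q.comp R.subtype) v' • p' : R) : V) ∈ X := by
      have hs : (Q.comp R.subtype) (p + v' - (Q.comp R.subtype) v' • p') = 0 :=
        sing_vec hp (polar_proj_left hp _) (polar_proj_right hp _)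
      refine keyA x₀ h₀ x₁ h₁ h0 hind _ (Submodule.coe_mem _) hs ?_ ?_
      · push_cast
        rw [polar_sub_right, polar_add_right, polar_smul_right, e1, polar_sub_right, polar_sub_right,
          polar_smul_right, polar_smul_right, ha, ha', hv0]
        simp
      · push_cast
        rw [polar_sub_right, polar_add_right, polar_smul_right, e1, polar_sub_right, polar_sub_right,
          polar_smul_right, polar_smul_right, hb, hb', hv1]
        simp
    push_cast at h3
    have h4 : (v' : V) ∈ X := by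
      have h5 := X.add_mem (X.sub_mem h3 hpX) (X.smul_mem ((Q.comp R.subtype) v') hpX')
      have h6 : (p : V) + v' - (Q.comp R.subtype) v' • (p' : V) - p + (Q.comp R.subtype) v' • (p' : V) = v' := by
        abel
      rwa [h6] at h5
    rw [e1] at h4
    have h5 := X.add_mem (X.add_mem h4 (X.smul_mem (polar Q p v) hpX')) (X.smul_mem (polar Q p' v) hpX)
    have h6 : v - polar Q p' v • (p : V) - polar Q p v • (p' : V) + polar Q p v • (p' : V) + polar Q p' v • (p : V) =
      v := by abel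
    rwa [h6] at h5
  -- two independent vectors of `X`
  obtain ⟨x₀, h₀, h0⟩ := Submodule.exists_mem_ne_zero_of_ne_bot hX0
  obtain ⟨x₁, h₁, hind⟩ : ∃ x₁ ∈ X, ∀ c : F, x₁ ≠ c • x₀ := by
    by_contra hc
    push Not at hc
    have h3 : X ≤ Submodule.span F {x₀} := by
      intro x hx
      obtain ⟨c, hc⟩ := hc x hx
      exact Submodule.mem_span_singleton.2 ⟨c, hc.symm⟩
    have h4 := (Submodule.finrank_mono h3).trans (finrank_span_singleton h0).le
    omega
  obtain ⟨⟨p, p', hp, ha, hb, ha', hb', hpX, hpX'⟩, hall⟩ := keyB x₀ h₀ x₁ h₁ h0 hind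
  obtain ⟨-, hall'⟩ := keyB p hpX p' hpX' (fun h => hp.left_ne (Subtype.ext h)) (by
    intro c hc
    have h3 := hp.pair
    rw [hpol, hc, polar_smul_right, polar_self_of_sing (show Q (p : V) = 0 from hp.left), smul_zero] at h3
    exact zero_ne_one h3)
  -- `X = R`
  have hRX : R ≤ X := by
    intro v hv
    have h3 : v - polar Q p' v • (p : V) - polar Q p v • (p' : V) ∈ X := by
      have e1 : ((proj (Q.comp R.subtype) p p' ⟨v, hv⟩ : R) : V) =
          v - polar Q p' v • (p : V) - polar Q p v • (p' : V) := by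
        rw [proj, hpol, hpol]
        rfl
      rw [← e1]
      refine hall' _ (Submodule.coe_mem _) ?_ ?_
      · have := polar_proj_left hp ⟨v, hv⟩
        rwa [hpol] at this
      · have := polar_proj_right hp ⟨v, hv⟩
        rwa [hpol] at this
    have h5 := X.add_mem (X.add_mem h3 (X.smul_mem (polar Q p v) hpX')) (X.smul_mem (polar Q p' v) hpX)
    have h6 : v - polar Q p' v • (p : V) - polar Q p v • (p' : V) + polar Q p v • (p' : V) + polar Q p' v • (p : V) =
      v := by abel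
    rwa [h6] at h5
  have := Submodule.finrank_mono hRX
  omega

end Move

end Cfsg.Agent.H604.Spr
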