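import Cfsg.Agent.H604.Spr.Uniq
import Cfsg.Agent.H604.Spr.LemL
import Cfsg.Agent.H925.OrthBasic
import Cfsg.Agent.AutOrth.Main
import Cfsg.Agent.H424.Spr.Core

/-!
# S3938, orthogonal groups: the automorphism as an operation on matrices (helper604)

* `tg hM` : conjugation of matrices by the semisimilarity `T`;
* `Bad hM H` : `H` is a proper `tg`-invariant subgroup of `omegaGL Q`;
* `exists_of_bad` : an element of `omegaGL Q` in no bad group gives the element of 3/2-generation;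
* `exists_moved` : for an automorphism `α ≠ 1` and a subspace `W`, some conjugate of `W` is not `T`-invariant.
-/

set_option autoImplicit false
set_option linter.unusedSectionVars false

namespace Cfsg.Agent.H604.Spr

open Cfsg Cfsg.Geo Module
open QuadraticMap hiding proj
open Cfsg.Agent.LieClassical.OrthCore Cfsg.Agent.LieClassical.OrthTrans Cfsg.Agent.LieClassical.OrthSimple
open Cfsg.Agent.LieClassical.OrthFinite
open Cfsg.Agent.AutOrth.SemiSim (IsSemi conjL conjL_apply conjL_apply' conjLHom conjL_mem_E)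
open Cfsg.Agent.H383.Cov (emb emb_injective range_emb map_emb_le map_emb_ne)
open scoped MatrixGroups Matrix

variable {ι : Type} [Fintype ι] [DecidableEq ι] {F : Type} [Field F] {Q : QuadraticForm F (ι → F)}

theorem mem_om (hG : Good Q) {g : GL ι F} : g ∈ omegaGL ⇑Q ↔ glEquiv ι F g ∈ E Q := by
  rw [← hG.commutator_eq_E, ← H925.map_omegaGL]
  constructor
  · intro h
    exact ⟨g, h, rfl⟩
  · rintro ⟨g', h', he⟩
    have : g' = g := (glEquiv ι F).injective he
    rwa [← this]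

theorem exists_om (hG : Good Q) {g : (ι → F) ≃ₗ[F] (ι → F)} (hg : g ∈ E Q) :
    ∃ g' ∈ omegaGL ⇑Q, glEquiv ι F g' = g := by
  refine ⟨(glEquiv ι F).symm g, ?_, (glEquiv ι F).apply_symm_apply g⟩
  rw [mem_om hG, (glEquiv ι F).apply_symm_apply]
  exact hg

variable {T : (ι → F) ≃+ (ι → F)} {σ : F ≃+* F} {μ : F}

/-- conjugation of matrices by a semisimilarity -/
noncomputable def tg (hM : IsSemi Q T σ μ) : GL ι F →* GL ι F :=
  (glEquiv ι F).symm.toMonoidHom.comp ((conjLHom hM).comp (glEquiv ι F).toMonoidHom)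

theorem glEquiv_tg (hM : IsSemi Q T σ μ) (g : GL ι F) : glEquiv ι F (tg hM g) = conjL hM (glEquiv ι F g) :=
  (glEquiv ι F).apply_symm_apply _

theorem tg_apply (hM : IsSemi Q T σ μ) (g : GL ι F) (v : ι → F) :
    (tg hM g : Matrix ι ι F) *ᵥ T v = T ((g : Matrix ι ι F) *ᵥ v) := by
  rw [← glEquiv_apply, glEquiv_tg, conjL_apply', glEquiv_apply]

theorem tg_injective (hM : IsSemi Q T σ μ) : Function.Injective (tg hM) := by
  intro g h hgh
  apply (glEquiv ι F).injective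
  apply LinearEquiv.ext
  intro v
  apply T.injective
  rw [glEquiv_apply, glEquiv_apply, ← tg_apply hM, ← tg_apply hM, hgh]

theorem tg_mem (hG : Good Q) (hM : IsSemi Q T σ μ) {g : GL ι F} (hg : g ∈ omegaGL ⇑Q) : tg hM g ∈ omegaGL ⇑Q := by
  rw [mem_om hG] at hg ⊢
  rw [glEquiv_tg]
  exact conjL_mem_E hM hg

/-- a proper subgroup of `omegaGL Q` invariant under the semisimilarity -/
structure Bad (hM : IsSemi Q T σ μ) (H : Subgroup (GL ι F)) : Prop where
  le : H ≤ omegaGL ⇑Q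
  ne : H ≠ omegaGL ⇑Q
  inv : ∀ h ∈ H, tg hM h ∈ H

theorem Bad.surj [Finite F] {hM : IsSemi Q T σ μ} {H : Subgroup (GL ι F)} (hB : Bad hM H) {h : GL ι F} (hh : h ∈ H) :
    ∃ h' ∈ H, tg hM h' = h := by
  let f : H → H := fun h => ⟨tg hM h, hB.inv h h.2⟩
  have hf : Function.Injective f := fun a b hab => Subtype.ext (tg_injective hM (congrArg Subtype.val hab))
  obtain ⟨h', hh'⟩ := (Finite.injective_iff_surjective.1 hf) ⟨h, hh⟩
  exact ⟨h', h'.2, congrArg Subtype.val hh'⟩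

/-- an element of `omegaGL Q` in no bad group -/
theorem exists_of_bad [Fintype F] (hG : Good Q) (hM : IsSemi Q T σ μ) {α : MulAut (POmega F ⇑Q)}
    (hα : ∀ g g' : ↥(Omega F ⇑Q),
      (∀ v, (((g' : isometryGroup F ⇑Q) : GL ι F) : Matrix ι ι F) *ᵥ T v =
        T ((((g : isometryGroup F ⇑Q) : GL ι F) : Matrix ι ι F) *ᵥ v)) →
      α (QuotientGroup.mk g) = QuotientGroup.mk g')
    {B : GL ι F} (hB : B ∈ omegaGL ⇑Q) (h : ∀ H, Bad hM H → B ∉ H) :
    ∃ x : POmega F ⇑Q, ∀ K : Subgroup (POmega F ⇑Q), x ∈ K → (∀ k ∈ K, α k ∈ K) → K = ⊤ := by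
  obtain ⟨B', rfl⟩ : ∃ B', emb ⇑Q B' = B := by
    rw [← range_emb] at hB
    exact hB
  refine ⟨QuotientGroup.mk B', fun K hK hinv => ?_⟩
  by_contra hne
  set L : Subgroup (Omega F ⇑Q) := K.comap (QuotientGroup.mk' (Subgroup.center (Omega F ⇑Q))) with hL
  have hLne : L ≠ ⊤ := by
    intro h1
    apply hne
    have h2 := Subgroup.map_comap_eq_self_of_surjective
      (QuotientGroup.mk'_surjective (Subgroup.center (Omega F ⇑Q))) K
    rw [← hL, h1, ← MonoidHom.range_eq_map, MonoidHom.range_eq_top.2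
      (QuotientGroup.mk'_surjective (Subgroup.center (Omega F ⇑Q)))] at h2
    exact h2.symm
  refine h (L.map (emb ⇑Q)) ⟨map_emb_le L, map_emb_ne hLne, ?_⟩ ⟨B', hK, rfl⟩
  rintro _ ⟨l, hl, rfl⟩
  have hl' : emb ⇑Q l ∈ omegaGL ⇑Q := by
    rw [← range_emb]
    exact ⟨l, rfl⟩
  have h1 := tg_mem hG hM hl'
  rw [← range_emb] at h1
  obtain ⟨l', hl'⟩ := h1
  refine ⟨l', ?_, hl'⟩
  change QuotientGroup.mk l' ∈ K
  rw [← hα l l' (fun v => ?_)]
  · exact hinv _ hl
  · have h2 := tg_apply hM (emb ⇑Q l) v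
    rw [← hl'] at h2
    exact h2

/-- for an automorphism `α ≠ 1` some conjugate of `W` is not `T`-invariant -/
theorem exists_moved [Fintype F] (hG : Good Q) (hM : IsSemi Q T σ μ) {α : MulAut (POmega F ⇑Q)}
    (hα : ∀ g g' : ↥(Omega F ⇑Q),
      (∀ v, (((g' : isometryGroup F ⇑Q) : GL ι F) : Matrix ι ι F) *ᵥ T v =
        T ((((g : isometryGroup F ⇑Q) : GL ι F) : Matrix ι ι F) *ᵥ v)) →
      α (QuotientGroup.mk g) = QuotientGroup.mk g')
    (hα1 : α ≠ 1) (W : Submodule F (ι → F)) (hW0 : W ≠ ⊥) (hW1 : W ≠ ⊤) :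
    ∃ k ∈ omegaGL ⇑Q, ∃ w, (k : Matrix ι ι F) *ᵥ w ∈ W ∧ (k : Matrix ι ι F) *ᵥ T w ∉ W := by
  by_contra hcon
  push Not at hcon
  have hfin : Finite (ι → F) := inferInstance
  -- the condition for linear automorphisms
  have h1 : ∀ k ∈ E Q, ∀ w, k w ∈ W → k (T w) ∈ W := by
    intro k hk w hw
    obtain ⟨k', hk', rfl⟩ := exists_om hG hk
    exact hcon k' hk' w hw
  have h2 : ∀ k ∈ E Q, ∀ w, k (T w) ∈ W ↔ k w ∈ W := by
    intro k hk w
    refine ⟨fun hw => ?_, h1 k hk w⟩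
    let f : {w // k w ∈ W} → {w // k w ∈ W} := fun w => ⟨T w, h1 k hk w w.2⟩
    have hf : Function.Injective f := fun a b hab => Subtype.ext (T.injective (congrArg Subtype.val hab))
    obtain ⟨w', hw'⟩ := (Finite.injective_iff_surjective.1 hf) ⟨T w, hw⟩
    have h3 : T (w' : ι → F) = T w := congrArg Subtype.val hw'
    rw [← T.injective h3]
    exact w'.2
  let N : Subgroup ((ι → F) ≃ₗ[F] (ι → F)) :=
    { carrier := {n | n ∈ E Q ∧ ∀ k ∈ E Q, ∀ w, k (n w) ∈ W ↔ k w ∈ W}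
      mul_mem' := fun {a b} ha hb => ⟨(E Q).mul_mem ha.1 hb.1, fun k hk w => by
        change k (a (b w)) ∈ W ↔ _
        rw [ha.2 k hk, hb.2 k hk]⟩
      one_mem' := ⟨(E Q).one_mem, fun k _ w => Iff.rfl⟩
      inv_mem' := fun {a} ha => ⟨(E Q).inv_mem ha.1, fun k hk w => by
        rw [← ha.2 k hk]
        change k (a (a.symm w)) ∈ W ↔ _
        rw [LinearEquiv.apply_symm_apply]⟩ }
  have hNE : N ≤ E Q := fun n hn => hn.1
  have hNn : ∀ g ∈ E Q, ∀ n ∈ N, g * n * g⁻¹ ∈ N := by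
    intro g hg n hn
    refine ⟨(E Q).mul_mem ((E Q).mul_mem hg hn.1) ((E Q).inv_mem hg), fun k hk w => ?_⟩
    change (k * g) (n (g.symm w)) ∈ W ↔ _
    rw [hn.2 _ ((E Q).mul_mem hk hg)]
    change k (g (g.symm w)) ∈ W ↔ _
    rw [LinearEquiv.apply_symm_apply]
  have hn : ∀ g ∈ E Q, g⁻¹ * conjL hM g ∈ N := by
    intro g hg
    refine ⟨(E Q).mul_mem ((E Q).inv_mem hg) (conjL_mem_E hM hg), fun k hk w => ?_⟩
    change (k * g⁻¹) (T (g (T.symm w))) ∈ W ↔ _
    rw [h2 _ ((E Q).mul_mem hk ((E Q).inv_mem hg))]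
    change k (g.symm (g (T.symm w))) ∈ W ↔ _
    rw [LinearEquiv.symm_apply_apply, ← h2 k hk, T.apply_symm_apply]
  rcases good_normal_dichotomy hG hNE hNn with h | h
  · apply hα1
    ext x
    obtain ⟨g, rfl⟩ := QuotientGroup.mk_surjective x
    have hg : emb ⇑Q g ∈ omegaGL ⇑Q := by
      rw [← range_emb]
      exact ⟨g, rfl⟩
    have h3 := tg_mem hG hM hg
    rw [← range_emb] at h3
    obtain ⟨g', hg'⟩ := h3
    rw [hα g g' (fun v => by
      have h4 := tg_apply hM (emb ⇑Q g) v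
      rw [← hg'] at h4
      exact h4), MulAut.one_apply]
    rw [eq_comm, QuotientGroup.eq, Subgroup.mem_center_iff]
    obtain ⟨c, hc⟩ := h _ (hn _ ((mem_om hG).1 hg))
    have h5 : ∀ v, ((emb ⇑Q (g⁻¹ * g') : GL ι F) : Matrix ι ι F) *ᵥ v = c • v := by
      intro v
      rw [← hc v, ← glEquiv_tg, ← hg', ← map_inv, ← map_mul, ← map_inv, ← map_mul, glEquiv_apply]
    intro y
    apply emb_injective
    rw [map_mul _ y, map_mul _ _ y]
    apply (glEquiv ι F).injective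
    apply LinearEquiv.ext
    intro v
    rw [glEquiv_apply, glEquiv_apply, Units.val_mul, Units.val_mul, ← Matrix.mulVec_mulVec, ← Matrix.mulVec_mulVec,
      h5, h5, Matrix.mulVec_smul]
  · have hirr := H925.omegaGL_irreducible (Q := ⇑Q) (H925.isND_of_nondeg hG.nondeg) (by
      have := hG.dim
      rwa [Module.finrank_fintype_fun_eq_card] at this) W (fun g hg w hw => by
        have h3 : glEquiv ι F g ∈ N := by rw [h]; exact (mem_om hG).1 hg
        exact (h3.2 1 (E Q).one_mem w).2 hw)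
    rcases hirr with h3 | h3
    · exact hW0 h3
    · exact hW1 h3

end Cfsg.Agent.H604.Spr
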