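import Cfsg.Agent.H383.Cov.Frame

/-!
# S3938, orthogonal groups: fields of matrices centralised by a block element (helper604)

`uniq` : two fields of matrices of degree 2 centralised by an element `x` which is irreducible on `range (x - 1)` induce
the same operators on `range (x - 1)`.
-/

set_option autoImplicit false
set_option linter.unusedSectionVars false

namespace Cfsg.Agent.H604.Spr

open Cfsg Cfsg.Geo Module
open Cfsg.Agent.H383.Cov (Blk comm_aeval toLin_pow_orderOf eq_zero_of_fix pow_of_even)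
open Cfsg.Agent.H907 (isField_of card_K)
open scoped MatrixGroups Matrix

variable {ι : Type} [Fintype ι] [DecidableEq ι] {F : Type} [Field F] [Finite F]

/-- the fixed vectors of `x` -/
abbrev Fx (x : GL ι F) : Submodule F (ι → F) := LinearMap.ker (Matrix.toLin' (x : Matrix ι ι F) - 1)

/-- the range of `x - 1` -/
abbrev Rx (x : GL ι F) : Submodule F (ι → F) := LinearMap.range (Matrix.toLin' (x : Matrix ι ι F) - 1)

omit [Finite F] in
theorem mem_Fx {x : GL ι F} {w : ι → F} : w ∈ Fx x ↔ (x : Matrix ι ι F) *ᵥ w = w := by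
  rw [LinearMap.mem_ker]
  exact sub_eq_zero

omit [Finite F] in
theorem mem_Rx {x : GL ι F} {w : ι → F} : w ∈ Rx x ↔ ∃ z, (x : Matrix ι ι F) *ᵥ z - z = w := by
  rw [LinearMap.mem_range]
  exact Iff.rfl

omit [Finite F] in
theorem Rx_comm {x : GL ι F} {e : Matrix ι ι F} (he : (x : Matrix ι ι F) * e = e * x) {w : ι → F} (hw : w ∈ Rx x) :
    e *ᵥ w ∈ Rx x := by
  obtain ⟨z, rfl⟩ := mem_Rx.1 hw
  refine mem_Rx.2 ⟨e *ᵥ z, ?_⟩
  rw [Matrix.mulVec_sub, Matrix.mulVec_mulVec, Matrix.mulVec_mulVec, he]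

omit [Finite F] in
theorem Fx_comm {x : GL ι F} {e : Matrix ι ι F} (he : (x : Matrix ι ι F) * e = e * x) {w : ι → F} (hw : w ∈ Fx x) :
    e *ᵥ w ∈ Fx x := by
  rw [mem_Fx] at hw ⊢
  rw [Matrix.mulVec_mulVec, he, ← Matrix.mulVec_mulVec, hw]

omit [Finite F] in
theorem comm_poly {x : GL ι F} (f : Polynomial F) :
    (x : Matrix ι ι F) * Polynomial.aeval (x : Matrix ι ι F) f = Polynomial.aeval (x : Matrix ι ι F) f * x :=
  (comm_aeval (t := (x : Matrix ι ι F)) (e := (x : Matrix ι ι F)) rfl f).symm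

theorem cyc {k : ℕ} {x : GL ι F} (hb : Blk k x) {v₀ : ι → F} (hv₀ : v₀ ∈ Rx x) (hv₀0 : v₀ ≠ 0) :
    ∀ w ∈ Rx x, ∃ f : Polynomial F, w = Polynomial.aeval (x : Matrix ι ι F) f *ᵥ v₀ := by
  set X : Matrix ι ι F := (x : Matrix ι ι F) with hX
  let C : Submodule F (ι → F) := LinearMap.range
    ({ toFun := fun f : Polynomial F => Polynomial.aeval X f *ᵥ v₀
       map_add' := fun f g => by rw [map_add, Matrix.add_mulVec]
       map_smul' := fun c f => by rw [map_smul, Matrix.smul_mulVec, RingHom.id_apply] } :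
      Polynomial F →ₗ[F] (ι → F))
  have hCinv : ∀ w ∈ C, X *ᵥ w ∈ C := by
    rintro _ ⟨f, rfl⟩
    refine ⟨Polynomial.X * f, ?_⟩
    change Polynomial.aeval X (Polynomial.X * f) *ᵥ v₀ = X *ᵥ (Polynomial.aeval X f *ᵥ v₀)
    rw [map_mul, Polynomial.aeval_X, Matrix.mulVec_mulVec]
  rcases hb.le_or_le hCinv with h | h
  · exfalso
    apply hv₀0
    have h1 : v₀ ∈ C := ⟨1, by
      change Polynomial.aeval X 1 *ᵥ v₀ = v₀
      rw [map_one, Matrix.one_mulVec]⟩
    have h2 := h h1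
    rw [LinearMap.mem_ker] at h2
    obtain ⟨z, hz⟩ := mem_Rx.1 hv₀
    exact eq_zero_of_fix (toLin_pow_orderOf x) hb.copq (v := z) hz.symm (sub_eq_zero.1 h2)
  · intro w hw
    obtain ⟨f, hf⟩ := h hw
    exact ⟨f, hf.symm⟩

/-- a nonzero vector of `range (x - 1)` -/
theorem exists_ne {k : ℕ} {x : GL ι F} (hk : 1 ≤ k) (hb : Blk k x) : ∃ v₀ ∈ Rx x, v₀ ≠ 0 := by
  by_contra hcon
  push Not at hcon
  have h1 : Rx x = ⊥ := by rw [Submodule.eq_bot_iff]; exact hcon
  have h2 : finrank F (Rx x) = k := hb.rk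
  rw [h1, finrank_bot] at h2
  omega

theorem poly_of {k : ℕ} {x : GL ι F} (hk : 1 ≤ k) (hb : Blk k x) {e : Matrix ι ι F}
    (he : (x : Matrix ι ι F) * e = e * x) :
    ∃ f : Polynomial F, ∀ u ∈ Rx x, e *ᵥ u = Polynomial.aeval (x : Matrix ι ι F) f *ᵥ u := by
  obtain ⟨v₀, hv₀, hv₀0⟩ := exists_ne hk hb
  obtain ⟨f, hf⟩ := cyc hb hv₀ hv₀0 _ (Rx_comm he hv₀)
  refine ⟨f, fun u hu => ?_⟩
  obtain ⟨g, rfl⟩ := cyc hb hv₀ hv₀0 u hu
  have h1 : Polynomial.aeval (x : Matrix ι ι F) f *ᵥ (Polynomial.aeval (x : Matrix ι ι F) g *ᵥ v₀) =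
      Polynomial.aeval (x : Matrix ι ι F) g *ᵥ (Polynomial.aeval (x : Matrix ι ι F) f *ᵥ v₀) := by
    rw [Matrix.mulVec_mulVec, Matrix.mulVec_mulVec, ← map_mul, ← map_mul, mul_comm]
  rw [h1, ← hf, Matrix.mulVec_mulVec, Matrix.mulVec_mulVec, comm_aeval he]

/-- the polynomials in `x` which vanish on `range (x - 1)` -/
def ann (x : GL ι F) : Ideal (Polynomial F) where
  carrier := {f | ∀ u ∈ Rx x, Polynomial.aeval (x : Matrix ι ι F) f *ᵥ u = 0}
  add_mem' := by
    intro f g hf hg u hu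
    rw [map_add, Matrix.add_mulVec, hf u hu, hg u hu, add_zero]
  zero_mem' := by
    intro u _
    rw [map_zero, Matrix.zero_mulVec]
  smul_mem' := by
    intro c f hf u hu
    rw [smul_eq_mul, map_mul, ← Matrix.mulVec_mulVec, hf u hu, Matrix.mulVec_zero]

omit [Finite F] in
theorem mem_ann {x : GL ι F} {f : Polynomial F} :
    f ∈ ann x ↔ ∀ u ∈ Rx x, Polynomial.aeval (x : Matrix ι ι F) f *ᵥ u = 0 := Iff.rfl

theorem ann_prime {k : ℕ} {x : GL ι F} (hk : 1 ≤ k) (hb : Blk k x) : (ann x).IsPrime := by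
  refine ⟨?_, ?_⟩
  · intro h
    obtain ⟨v₀, hv₀, hv₀0⟩ := exists_ne hk hb
    apply hv₀0
    have h1 : (1 : Polynomial F) ∈ ann x := by rw [h]; trivial
    have h2 := h1 v₀ hv₀
    rwa [map_one, Matrix.one_mulVec] at h2
  · intro f g hfg
    by_contra hcon
    rw [not_or] at hcon
    obtain ⟨hf, hg⟩ := hcon
    apply hg
    obtain ⟨u₁, hu₁, hu₁0⟩ : ∃ u ∈ Rx x, Polynomial.aeval (x : Matrix ι ι F) f *ᵥ u ≠ 0 := by
      by_contra hc
      push Not at hc
      exact hf hc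
    intro u hu
    obtain ⟨h, rfl⟩ := cyc hb (Rx_comm (comm_poly f) hu₁) hu₁0 u hu
    have h3 := hfg u₁ hu₁
    rw [Matrix.mulVec_mulVec, Matrix.mulVec_mulVec, ← map_mul, ← map_mul,
      show g * h * f = h * (f * g) by ring, map_mul, ← Matrix.mulVec_mulVec, h3, Matrix.mulVec_zero]

/-- two sets of `N` roots of `t ^ N - t` in a domain -/
theorem eq_of_domain {D E E' : Type*} [CommRing D] [IsDomain D] [Fintype E'] {N : ℕ} (hN : 1 < N)
    (hE' : Fintype.card E' = N) (φ : E → D) (φ' : E' → D) (hinj : Function.Injective φ')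
    (h : ∀ e, φ e ^ N = φ e) (h' : ∀ e, φ' e ^ N = φ' e) (e : E) : ∃ e', φ' e' = φ e := by
  classical
  have hp0 : (Polynomial.X ^ N - Polynomial.X : Polynomial D) ≠ 0 := by
    intro h0
    have h1 := congrArg (fun p => Polynomial.coeff p N) h0
    simp only [Polynomial.coeff_sub, Polynomial.coeff_X_pow, Polynomial.coeff_X, Polynomial.coeff_zero, if_true,
      if_neg (show ¬ 1 = N by omega), sub_zero] at h1
    exact one_ne_zero h1
  have hdeg : (Polynomial.X ^ N - Polynomial.X : Polynomial D).natDegree ≤ N := by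
    refine (Polynomial.natDegree_sub_le _ _).trans ?_
    rw [Polynomial.natDegree_X_pow, Polynomial.natDegree_X]
    omega
  set S := (Polynomial.X ^ N - Polynomial.X : Polynomial D).roots.toFinset with hS
  have hmem : ∀ d : D, d ^ N = d → d ∈ S := by
    intro d hd
    rw [hS, Multiset.mem_toFinset, Polynomial.mem_roots hp0, Polynomial.IsRoot.def, Polynomial.eval_sub,
      Polynomial.eval_pow, Polynomial.eval_X, hd, sub_self]
  have hcard : S.card ≤ N := (Multiset.toFinset_card_le _).trans ((Polynomial.card_roots' _).trans hdeg)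
  have h1 : Finset.univ.image φ' = S := by
    apply Finset.eq_of_subset_of_card_le
    · intro d hd
      obtain ⟨e', -, rfl⟩ := Finset.mem_image.1 hd
      exact hmem _ (h' e')
    · rw [Finset.card_image_of_injective _ hinj, Finset.card_univ, hE']
      exact hcard
  have h2 := hmem _ (h e)
  rw [← h1] at h2
  obtain ⟨e', -, h3⟩ := Finset.mem_image.1 h2
  exact ⟨e', h3⟩

/-- **Uniqueness of the field on `range (x - 1)`.** -/
theorem uniq [Nonempty ι] {k : ℕ} {x : GL ι F} (hk : 1 ≤ k) (hb : Blk k x) {E E' : Subalgebra F (Matrix ι ι F)}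
    (hE : IsFieldSubalgebra 2 E) (hE' : IsFieldSubalgebra 2 E') (h : ∀ e ∈ E, (x : Matrix ι ι F) * e = e * x)
    (h' : ∀ e ∈ E', (x : Matrix ι ι F) * e = e * x) {e : Matrix ι ι F} (he : e ∈ E) :
    ∃ e' ∈ E', ∀ u ∈ Rx x, e *ᵥ u = e' *ᵥ u := by
  have := Fintype.ofFinite F
  have hP : (ann x).IsPrime := ann_prime hk hb
  have hD : IsDomain (Polynomial F ⧸ ann x) := Ideal.Quotient.isDomain _
  have hfin : Finite E' := inferInstance
  have := Fintype.ofFinite E'
  have hcard : Fintype.card E' = Nat.card F ^ 2 := by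
    rw [← Nat.card_eq_fintype_card, card_K hE', Nat.card_eq_fintype_card]
  have hN : 1 < Nat.card F ^ 2 := by
    have : 1 < Nat.card F := Finite.one_lt_card
    exact Nat.one_lt_pow (by norm_num) this
  have key : ∀ (K : Subalgebra F (Matrix ι ι F)), IsFieldSubalgebra 2 K → (∀ e ∈ K, (x : Matrix ι ι F) * e = e * x) →
      ∃ f : K → Polynomial F, (∀ (e : K), ∀ u ∈ Rx x, (e : Matrix ι ι F) *ᵥ u =
        Polynomial.aeval (x : Matrix ι ι F) (f e) *ᵥ u) ∧
        ∀ e : K, (Ideal.Quotient.mk (ann x) (f e)) ^ (Nat.card F ^ 2) = Ideal.Quotient.mk (ann x) (f e) := by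
    intro K hK hc
    choose f hf using fun e : K => poly_of hk hb (hc e e.2)
    refine ⟨f, hf, fun e => ?_⟩
    rw [← map_pow, Ideal.Quotient.mk_eq_mk_iff_sub_mem, mem_ann]
    intro u hu
    have hpow : ∀ n : ℕ, ∀ u ∈ Rx x, (Polynomial.aeval (x : Matrix ι ι F) (f e)) ^ n *ᵥ u =
        (e : Matrix ι ι F) ^ n *ᵥ u := by
      intro n
      induction n with
      | zero => intro u _; rw [pow_zero, pow_zero]
      | succ n ih =>
        intro u hu
        rw [pow_succ, pow_succ, ← Matrix.mulVec_mulVec, ← Matrix.mulVec_mulVec, ← hf e u hu,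
          ih _ (Rx_comm (hc e e.2) hu)]
    rw [map_sub, map_pow, Matrix.sub_mulVec, hpow _ u hu, pow_of_even hK e.2 even_two, ← hf e u hu, sub_self]
  obtain ⟨f, hf, hfp⟩ := key E hE h
  obtain ⟨f', hf', hfp'⟩ := key E' hE' h'
  obtain ⟨e', he'⟩ := eq_of_domain hN hcard (fun e : E => Ideal.Quotient.mk (ann x) (f e))
    (fun e : E' => Ideal.Quotient.mk (ann x) (f' e)) (by
      intro e₁ e₂ h12
      have h1 := (Ideal.Quotient.mk_eq_mk_iff_sub_mem _ _).1 h12
      obtain ⟨v₀, hv₀, hv₀0⟩ := exists_ne hk hb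
      have h2 := h1 v₀ hv₀
      rw [map_sub, Matrix.sub_mulVec, ← hf' e₁ v₀ hv₀, ← hf' e₂ v₀ hv₀, ← Matrix.sub_mulVec] at h2
      by_contra hne
      obtain ⟨y, hy, hy1⟩ := hE'.inv ((e₁ : Matrix ι ι F) - e₂) (E'.sub_mem e₁.2 e₂.2) (by
        intro h0
        exact hne (Subtype.ext (sub_eq_zero.1 h0)))
      apply hv₀0
      have h3 : y * ((e₁ : Matrix ι ι F) - e₂) = 1 := by
        rw [← hy1]
        exact hE'.comm _ hy _ (E'.sub_mem e₁.2 e₂.2)
      rw [← Matrix.one_mulVec v₀, ← h3, ← Matrix.mulVec_mulVec, h2, Matrix.mulVec_zero]) hfp hfp' ⟨e, he⟩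
  refine ⟨e', e'.2, fun u hu => ?_⟩
  have h1 := (Ideal.Quotient.mk_eq_mk_iff_sub_mem _ _).1 he'
  have h2 := h1 u hu
  rw [map_sub, Matrix.sub_mulVec, ← hf ⟨e, he⟩ u hu, ← hf' e' u hu] at h2
  exact (sub_eq_zero.1 h2).symm

end Cfsg.Agent.H604.Spr
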